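import Groth.Agent.FunFldLib.Quad.Normal
import Groth.Agent.FunFldLib.Diff.Series
import Groth.Agent.FunFldLib.Tate.Weil
import Groth.Agent.FunFldLib.Tate.Hurwitz

/-! Differentials on double covers of the line. -/

set_option autoImplicit false

universe u v w

open WithZero Polynomial
open LocRes (IsExpansionAt)
open scoped IntermediateField

namespace Groth.Agent.FunFldLib.Quad

open FunFld Groth.Agent.FunFldLib

variable {k : Type u} [Field k] {K : Type v} [Field K] [Algebra k K]

section local'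

variable {F : Type w} [Field F] [Algebra k F] {φ : K →ₐ[k] LaurentSeries F} {P : Place k K}

theorem D_map_algebraMap (φ : K →ₐ[k] LaurentSeries F) (c : k) : LocRes.D F (φ (algebraMap k K c)) = 0 := by
  rw [AlgHom.commutes, Laurent.algebraMap_eq, ← HahnSeries.C_apply, LocRes.D_apply, LocRes.derivative_C]

theorem D_mul (φ : K →ₐ[k] LaurentSeries F) (a b : K) :
    LocRes.D F (φ (a * b)) = φ a * LocRes.D F (φ b) + φ b * LocRes.D F (φ a) := by
  rw [map_mul, Derivation.leibniz]; rfl

theorem D_poly (φ : K →ₐ[k] LaurentSeries F) (x : K) (c : k[X]) :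
    LocRes.D F (φ (aeval x c)) = φ (aeval x (derivative c)) * LocRes.D F (φ x) := by
  let _ := φ.toRingHom.toAlgebra
  have := LocRes.isScalarTower_exp φ
  exact (LocRes.dExp φ).map_aeval c x

theorem vD (hφ : IsExpansionAt P.1 φ) (a b : K) :
    Valued.v (φ a * LocRes.D F (φ b)) = P.1 a * Valued.v (LocRes.D F (φ b)) := by rw [map_mul, hφ.1]

theorem vDiff_one (φ : K →ₐ[k] LaurentSeries F) (x : K) : LocRes.vDiff φ 1 x = Valued.v (LocRes.D F (φ x)) := by
  rw [LocRes.vDiff, map_one, one_mul]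

theorem ordDiff_eq {x : K} {n : ℤ} (h : Valued.v (LocRes.D F (φ x)) = exp (-n)) : LocRes.ordDiff φ 1 x = n := by
  rw [LocRes.ordDiff, vDiff_one, h, log_exp, neg_neg]

/-- an odd order gives an exact derivative in characteristic two, and more generally prime to it -/
theorem D_exact (hφ : IsExpansionAt P.1 φ) {z : K} {n : ℤ} (hn : ((n : ℤ) : F) ≠ 0) (hz : P.1 z = exp (-n)) :
    Valued.v (LocRes.D F (φ z)) = exp (-(n - 1)) :=
  (Diff.D_le_of_le (e := n) (by rw [hφ.1, hz])).2.2 hn (by rw [hφ.1, hz])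

end local'

variable [Algebra (RatFunc k) K] [IsScalarTower k (RatFunc k) K]

theorem finite_K (hdeg : Module.finrank (RatFunc k) K = 2) : FiniteDimensional (RatFunc k) K :=
  Module.finite_of_finrank_pos (by omega)

theorem sep_K [FiniteDimensional (RatFunc k) K] [Algebra.IsSeparable (RatFunc k) K] : Tate.Sep k K := by
  refine Tate.sep_ext (k := k) (k' := k) (K := RatFunc k) (K' := K) ⟨RatFunc.X, ?_⟩
  rw [adjoin_X_top]
  exact Algebra.IsSeparable.of_algHom (⊤ : IntermediateField k (RatFunc k)) (⊤ : IntermediateField k (RatFunc k))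
    { toFun := fun x => ⟨x, trivial⟩, map_one' := rfl, map_mul' := fun _ _ => rfl, map_zero' := rfl,
      map_add' := fun _ _ => rfl, commutes' := fun _ => rfl }

theorem exists_inf : ∃ Pinf : Place k (RatFunc k), 1 < Pinf.1 (RatFunc.X : RatFunc k) := by
  have hK := ff0_rat (k := k)
  by_contra hno
  push Not at hno
  have h := deg_zeros_eq hK (transcendental_inv hK (transX (k := k)))
  rw [degX_inv, degX_X, deg_sup_zero, Finset.sum_eq_zero fun R hR => ?_] at h
  · simp at h
  · have h1 := (Finset.mem_filter.1 hR).2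
    rw [div_apply hK, ← v_lt_one_iff R (inv_ne_zero RatFunc.X_ne_zero), map_inv₀] at h1
    exact absurd h1 (not_lt.2 ((one_le_inv₀ (zero_lt_iff.2 (v_ne_zero R RatFunc.X_ne_zero))).2 (hno R)))

/-- the regular differentials `z dx` once the divisor of `dx` is `div u + h • (x)_∞` -/
theorem regular_basis (hK : IsFunctionField k K) (hs : Tate.Sep k K) [FiniteDimensional (RatFunc k) K]
    (hdeg : Module.finrank (RatFunc k) K = 2)
    {F : Place k K → Type w} [∀ P, Field (F P)] [∀ P, Algebra k (F P)] [∀ P, FiniteDimensional k (F P)]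
    (φ : ∀ P, K →ₐ[k] LaurentSeries (F P)) (hφ : ∀ P, IsExpansionAt P.1 (φ P))
    (Pinf : Place k (RatFunc k)) (hinf : 1 < Pinf.1 (RatFunc.X : RatFunc k)) {u : K} (hu : u ≠ 0) (h : ℤ)
    (hloc : ∀ P, Valued.v (LocRes.D (F P) (φ P (algebraMap (RatFunc k) K RatFunc.X))) =
      exp (-(P.ord u + h * (conorm K (Finsupp.single Pinf 1) : Divisor k K) P))) :
    (genus k K : ℤ) = h + 1 ∧
    (∀ i : ℕ, i < genus k K → ∀ P,
      LocRes.vDiff (φ P) (algebraMap (RatFunc k) K RatFunc.X ^ i / u) (algebraMap (RatFunc k) K RatFunc.X) ≤ 1) ∧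
    ∀ z : K, (∀ P, LocRes.vDiff (φ P) z (algebraMap (RatFunc k) K RatFunc.X) ≤ 1) →
      ∃ a : k[X], a.degree < (genus k K : WithBot ℕ) ∧ z = aeval (algebraMap (RatFunc k) K RatFunc.X) a / u := by
  classical
  set x := algebraMap (RatFunc k) K RatFunc.X with hx
  obtain ⟨P⟩ := nonempty_place hK.1
  obtain ⟨hXv, hdeg1, honly⟩ := infinite_place Pinf hinf
  have hxt : Transcendental k x := transcendental_map transX
  have hD : KaehlerDifferential.D k K x ≠ 0 := by
    refine Tate.D_ne_zero_of_vDiff (φ := φ P) (u := 1) ?_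
    rw [vDiff_one, hloc P]; exact exp_ne_zero
  obtain ⟨ω, C, -, hdiv, hC⟩ := Tate.exists_weil hK hs φ hφ (u := 1) one_ne_zero hD
  obtain ⟨hell, hdegC⟩ := deg_canonical hK ⟨ω, ne_zero_of_isDivOf hK hdiv, hdiv⟩
  set Dinf : Divisor k K := conorm K (Finsupp.single Pinf 1)
  have hCeq : C = h • Dinf + FunFld.div k u := Finsupp.ext fun P => by
    rw [hC, ordDiff_eq (hloc P), Finsupp.add_apply, Finsupp.smul_apply, smul_eq_mul, div_apply hK.1]; ring
  have hdD : Dinf.deg = 2 := by
    rw [deg_conorm ff_rat, deg_single, hdeg1, hdeg]; norm_num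
  have hsm : ∀ (n : ℤ) (X : Divisor k K), (n • X).deg = n * X.deg := fun n X =>
    (AddMonoidHom.map_zsmul (AddMonoidHom.mk' (fun X : Divisor k K => X.deg) deg_add) n X).trans (smul_eq_mul _ _)
  have hg : (genus k K : ℤ) = h + 1 := by
    rw [hCeq, deg_add, deg_div hK.1, hsm, hdD] at hdegC; omega
  have hreg : ∀ z : K, (∀ P, LocRes.vDiff (φ P) z x ≤ 1) ↔ z ∈ FunFld.L C := fun z => by
    have h1 := Tate.mem_L_iff_vDiff hK hs φ hφ hD hC 0 z
    rw [sub_zero] at h1
    rw [h1]
    refine forall_congr' fun P => ?_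
    rw [Finsupp.coe_zero, Pi.zero_apply, neg_zero, exp_zero]
  have hDP : ∀ (P : Place k K) (P₀ : Place k (RatFunc k)) (e : ℕ), IsOverWith P P₀ e →
      Dinf P = if P₀ = Pinf then (e : ℤ) else 0 := fun P P₀ e he => by
    rw [conorm_apply ff0_rat _ he]
    split_ifs with h0
    · rw [h0, Finsupp.single_eq_same, mul_one]
    · rw [Finsupp.single_eq_of_ne h0, mul_zero]
  have hpow : ∀ i : ℕ, i < genus k K → x ^ i ∈ FunFld.L (h • Dinf) := fun i hi P => by
    obtain ⟨P₀, e, he0, he⟩ := exists_over (K := RatFunc k) ff0_rat P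
    rw [Finsupp.smul_apply, hDP P P₀ e he, smul_eq_mul, map_pow, he]
    split_ifs with h0
    · rw [h0, hXv, ← exp_nsmul, ← exp_nsmul, exp_le_exp]
      simp only [nsmul_eq_mul, mul_one]
      have : (i : ℤ) ≤ h := by omega
      nlinarith
    · rw [mul_zero, exp_zero]
      exact pow_le_one₀ zero_le (pow_le_one₀ zero_le (not_lt.1 fun hgt => h0 (honly P₀ hgt)))
  have hmem : ∀ z : K, z ∈ FunFld.L C ↔ z * u ∈ FunFld.L (h • Dinf) := fun z => by
    rw [hCeq, mul_comm, L_shift hK.1 _ hu]
  refine ⟨hg, fun i hi P => ?_, fun z hz => ?_⟩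
  · refine (hreg _).2 ((hmem _).2 ?_) P
    rw [div_mul_cancel₀ _ hu]
    exact hpow i hi
  · have hell' : ell (h • Dinf) = genus k K := by rw [← hell, hCeq, ell_add_div hK.1 _ hu]
    have hfin := finite_L hK.1 (h • Dinf)
    let b : Fin (genus k K) → FunFld.L (h • Dinf) := fun i => ⟨x ^ (i : ℕ), hpow i i.2⟩
    have hli : LinearIndependent k b := by
      refine LinearIndependent.of_comp (FunFld.L (h • Dinf)).subtype ?_
      rw [Fintype.linearIndependent_iff]
      intro g hg' i
      have h1 : aeval x (∑ j : Fin (genus k K), monomial (j : ℕ) (g j)) = 0 := by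
        simpa [b, aeval_monomial, Algebra.smul_def] using hg'
      have h2 := congrArg (fun q : k[X] => q.coeff (i : ℕ)) (transcendental_iff.1 hxt _ h1)
      simpa [coeff_monomial, Fin.val_inj] using h2
    have hspan : Submodule.span k (Set.range b) = ⊤ := hli.span_eq_top_of_card_eq_finrank' (by rw [Fintype.card_fin]; exact hell'.symm)
    have hzu : (⟨z * u, (hmem z).1 ((hreg z).1 hz)⟩ : FunFld.L (h • Dinf)) ∈ Submodule.span k (Set.range b) := hspan ▸ trivial
    obtain ⟨c, hc⟩ := (Submodule.mem_span_range_iff_exists_fun k).1 hzu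
    refine ⟨∑ j : Fin (genus k K), monomial (j : ℕ) (c j), ?_, ?_⟩
    · refine (degree_sum_le _ _).trans_lt ((Finset.sup_lt_iff (WithBot.bot_lt_coe _)).2 fun j _ => ?_)
      exact (degree_monomial_le _ _).trans_lt (Nat.cast_lt.2 j.2)
    · rw [eq_div_iff hu, map_sum]
      have := congrArg Subtype.val hc
      simpa [b, aeval_monomial, Algebra.smul_def] using this.symm

end Groth.Agent.FunFldLib.Quad
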