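import Groth.Agent.FunFldLib.Quad.Diff

/-! The divisor of `dx` on double covers of the line. -/

set_option autoImplicit false

universe u v w

open WithZero Polynomial
open LocRes (IsExpansionAt)
open scoped IntermediateField

namespace Groth.Agent.FunFldLib.Quad

open FunFld Groth.Agent.FunFldLib

variable {k : Type u} [Field k] {K : Type v} [Field K] [Algebra k K] [Algebra (RatFunc k) K] [IsScalarTower k (RatFunc k) K]
  [FiniteDimensional (RatFunc k) K] {F : Type w} [Field F] [Algebra k F] {φ : K →ₐ[k] LaurentSeries F}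
  {P : Place k K} {P₀ : Place k (RatFunc k)} {e : ℕ}

omit [FiniteDimensional (RatFunc k) K] in
theorem aeval_x (c : k[X]) : aeval (algebraMap (RatFunc k) K RatFunc.X) c =
    algebraMap (RatFunc k) K (algebraMap k[X] (RatFunc k) c) := by
  rw [aeval_algebraMap_apply, aeval_X_eq]

/-- unramified over a finite place -/
theorem D_x_unramified (hφ : IsExpansionAt P.1 φ) (he : IsOverWith P P₀ 1) (hfin : P₀.1 RatFunc.X ≤ 1) :
    Valued.v (LocRes.D F (φ (algebraMap (RatFunc k) K RatFunc.X))) = 1 := by
  set x := algebraMap (RatFunc k) K RatFunc.X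
  obtain ⟨p, -, hp, hpP⟩ := exists_prime P₀ hfin
  have hx : P.1 x ≤ 1 := (over_le_iff he _).2 hfin
  have hv : P.1 (aeval x p) = exp (-1) := by
    rw [aeval_algebraMap_apply, he, v_prime P₀ hfin hp hpP, pow_one]
  have h := Diff.D_eq_one (f := φ (aeval x p)) (by rw [hφ.1, hv])
  rw [D_poly, vD hφ] at h
  have h1 : P.1 (aeval x (derivative p)) ≤ 1 := aeval_le_one P hx _
  have h2 : Valued.v (LocRes.D F (φ x)) ≤ 1 := Diff.D_le_one (by rw [hφ.1]; exact hx)
  exact le_antisymm h2 (h.symm.trans_le (mul_le_of_le_one_left zero_le h1))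

/-- unramified at infinity -/
theorem D_x_infinite_unramified (hφ : IsExpansionAt P.1 φ) (he : IsOverWith P P₀ 1) (hinf : 1 < P₀.1 RatFunc.X) :
    Valued.v (LocRes.D F (φ (algebraMap (RatFunc k) K RatFunc.X))) = exp (2 : ℤ) := by
  have h := D_exact hφ (z := algebraMap (RatFunc k) K RatFunc.X) (n := -1) (by norm_num)
    (by rw [he, (infinite_place P₀ hinf).1, pow_one, neg_neg])
  simpa using h

variable {y : K} {f : k[X]}

/-- the local computation for `y ^ 2 = f (x)` -/
theorem hyper_local [Algebra.IsSeparable (RatFunc k) K] (h2 : ringChar k ≠ 2)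
    (hdeg : Module.finrank (RatFunc k) K = 2) (hf : Squarefree f) (hd : 1 ≤ f.natDegree)
    (heq : y ^ 2 = algebraMap (RatFunc k) K (algebraMap k[X] (RatFunc k) f))
    (Pinf : Place k (RatFunc k)) (hinf : 1 < Pinf.1 (RatFunc.X : RatFunc k)) (hφ : IsExpansionAt P.1 φ) :
    Valued.v (LocRes.D F (φ (algebraMap (RatFunc k) K RatFunc.X))) =
      exp (-(P.ord y + ((((f.natDegree - 1) / 2 : ℕ) : ℤ) - 1) * (conorm K (Finsupp.single Pinf 1) : Divisor k K) P)) := by
  classical
  have hK := ff0_rat (k := k)
  set x := algebraMap (RatFunc k) K RatFunc.X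
  obtain ⟨P₀, e, hepos, he⟩ := exists_over (K := RatFunc k) hK P
  set G := algebraMap k[X] (RatFunc k) f with hG
  have hy0 : y ≠ 0 := fun h => not_mem_range hf hd heq ⟨0, by rw [h, map_zero]⟩
  have key : 2 * P.ord y = e * P₀.ord G := by
    rw [← ord_map he, hG, ← heq, ord_pow P hy0]; norm_num
  have h20 : (2 : k) ≠ 0 := fun h => h2 (((Nat.dvd_prime Nat.prime_two).1
    ((ringChar.spec k 2).1 (by exact_mod_cast h))).resolve_left CharP.ringChar_ne_one)
  have h2F : ((2 : ℤ) : F) ≠ 0 := by
    rw [show ((2 : ℤ) : F) = algebraMap k F 2 by rw [map_ofNat]; norm_num]; exact (_root_.map_ne_zero _).2 h20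
  have hP2 : P.1 (2 : K) = 1 := by
    rw [← map_ofNat (algebraMap k K)]; exact v_algebraMap P h20
  let _ : Algebra P₀.O K := ((algebraMap (RatFunc k) K).comp (algebraMap P₀.O (RatFunc k))).toAlgebra
  have : IsScalarTower P₀.O (RatFunc k) K := IsScalarTower.of_algebraMap_eq fun _ => rfl
  have hyr : y ∉ Set.range (algebraMap (RatFunc k) K) := not_mem_range hf hd heq
  rw [conorm_apply hK _ he]
  by_cases hfin : P₀.1 RatFunc.X ≤ 1
  · rw [Finsupp.single_eq_of_ne (fun h => by subst h; exact hinf.not_ge hfin), mul_zero, mul_zero, add_zero]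
    have hv := v_squarefree P₀ hfin hf
    rw [aeval_X_eq, ← hG] at hv
    rcases hv with hv | hv
    · have hyv : P.1 y = 1 := by
        have h : P.1 (y ^ 2) = 1 := by rw [heq, he, hv, one_pow]
        rwa [map_pow, pow_eq_one_iff_of_nonneg zero_le two_ne_zero] at h
      have h1 : e = 1 := unram_of_unit hK hdeg he hyr (α := 0) (β := -G)
        (by rw [map_zero, zero_mul, add_zero, map_neg, heq, hG, add_neg_cancel]) (by rw [map_zero]; exact zero_le)
        (by rw [Valuation.map_neg, hv]) (by rw [map_zero, add_zero, map_mul, hP2, hyv, one_mul])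
      subst h1
      rw [D_x_unramified hφ he hfin, Place.ord, hyv]; simp
    · have hord : P₀.ord G = 1 := by rw [Place.ord, hv, log_exp, neg_neg]
      obtain ⟨rfl, -, -⟩ := ram_of_odd hK hdeg he (a := G) (by rw [hord]; exact odd_one) key
      have hy1 : P.ord y = 1 := by rw [hord] at key; omega
      have hyv : P.1 y = exp (-1) := by rw [v_eq_exp P hy0, hy1]
      rw [hy1]
      have hx : P.1 x ≤ 1 := (over_le_iff he _).2 hfin
      have hD : Valued.v (LocRes.D F (φ (y * y))) = exp (-1) := by
        rw [D_mul, show φ y * LocRes.D F (φ y) + φ y * LocRes.D F (φ y) = φ (2 * y) * LocRes.D F (φ y) by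
          rw [map_mul, map_ofNat]; ring, vD hφ, map_mul, hP2, hyv, Diff.D_eq_one (by rw [hφ.1, hyv]), one_mul, mul_one]
      rw [← pow_two, heq, ← aeval_x, D_poly, vD hφ] at hD
      have hle : Valued.v (LocRes.D F (φ x)) ≤ 1 := Diff.D_le_one (by rw [hφ.1]; exact hx)
      have hev : P.1 (aeval x (derivative f)) = 1 := by
        have h1 := aeval_le_one P₀ hfin (derivative f)
        rw [aeval_algebraMap_apply, he] at hD ⊢
        rcases lt_or_eq_of_le h1 with hlt | h1'
        · exfalso
          rw [lt_one_iff_le] at hlt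
          have h3 := hD.symm.trans_le (mul_le_mul' (pow_le_pow_left₀ zero_le hlt 2) hle)
          rw [mul_one, ← exp_nsmul, exp_le_exp] at h3
          simp at h3
        · rw [h1', one_pow]
      rwa [hev, one_mul] at hD
  · push Not at hfin
    obtain ⟨hX, -, honly⟩ := infinite_place Pinf hinf
    obtain rfl : P₀ = Pinf := honly P₀ hfin
    have hf0 : f ≠ 0 := fun h => by simp [h] at hd
    have hGv : P₀.1 G = exp (f.natDegree : ℤ) := by
      rw [hG, ← aeval_X_eq, aeval_eq_pow P₀ hfin hf0, hX, ← exp_nsmul]; simp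
    have hGo : P₀.ord G = -(f.natDegree : ℤ) := by rw [Place.ord, hGv, log_exp]
    rw [Finsupp.single_eq_same, mul_one]
    rw [hGo] at key
    rcases Nat.even_or_odd f.natDegree with ⟨m, hm⟩ | hodd
    · set r : RatFunc k := RatFunc.X ^ m
      have hr0 : r ≠ 0 := pow_ne_zero m RatFunc.X_ne_zero
      set β : RatFunc k := -G / r ^ 2
      set z := y / algebraMap (RatFunc k) K r
      have hz : z ^ 2 + algebraMap (RatFunc k) K 0 * z + algebraMap (RatFunc k) K β = 0 := by
        rw [map_zero, zero_mul, add_zero, div_pow, ← map_pow, map_div₀, map_neg, hG, ← heq]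
        ring
      have hβ : P₀.1 β = 1 := by
        rw [map_div₀, Valuation.map_neg, hGv, map_pow, map_pow, hX, ← exp_nsmul, ← exp_nsmul,
          show (f.natDegree : ℤ) = 2 • (m • (1 : ℤ)) by simp [hm]; ring, div_self exp_ne_zero]
      have hzv : P.1 z = 1 := by
        have h : P.1 (z ^ 2) = 1 := by
          rw [show z ^ 2 = -algebraMap (RatFunc k) K β from eq_neg_of_add_eq_zero_left (by rw [map_zero, zero_mul, add_zero] at hz; exact hz),
            Valuation.map_neg, he, hβ, one_pow]
        rwa [map_pow, pow_eq_one_iff_of_nonneg zero_le two_ne_zero] at h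
      have h1 : e = 1 := unram_of_unit hK hdeg he (y := z) (fun ⟨r', hr'⟩ =>
        hyr ⟨r' * r, by rw [map_mul, hr', div_mul_cancel₀ _ ((_root_.map_ne_zero _).2 hr0)]⟩)
        hz (by rw [map_zero]; exact zero_le) hβ.le (by rw [map_zero, add_zero, map_mul, hP2, hzv, one_mul])
      subst h1
      rw [D_x_infinite_unramified hφ he hfin]
      congr 1
      push_cast at key ⊢
      omega
    · obtain ⟨rfl, -, -⟩ := ram_of_odd hK hdeg he (a := G)
        (by rw [hGo]; exact ((Int.odd_coe_nat _).2 hodd).neg) (by rw [hGo]; exact key)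
      have hxv : P.1 x = exp (-(-2)) := by rw [he, hX, ← exp_nsmul]; rfl
      rw [D_exact hφ (n := -2) (by push_cast; simpa using h2F) hxv]
      congr 1
      obtain ⟨m, hm⟩ := hodd
      push_cast at key ⊢
      omega

variable {g : RatFunc k} {q : k[X]}

/-- the local computation for `y ^ 2 + y = g` in characteristic two -/
theorem as_local [Algebra.IsSeparable (RatFunc k) K] [PerfectField k] (h2 : ringChar k = 2)
    (hdeg : Module.finrank (RatFunc k) K = 2) (hy : y ∉ Set.range (algebraMap (RatFunc k) K))
    (heq : y ^ 2 + y = algebraMap (RatFunc k) K g)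
    (hodd : ∀ p : Place k (RatFunc k), 1 < p.1 g → Odd (p.ord g)) (hq0 : q ≠ 0)
    (hq : ∀ p : Place k (RatFunc k), p.1 RatFunc.X ≤ 1 →
      p.ord (algebraMap k[X] (RatFunc k) q) = if 1 < p.1 g then (1 - p.ord g) / 2 else 0)
    (Pinf : Place k (RatFunc k)) (hinf : 1 < Pinf.1 (RatFunc.X : RatFunc k)) (hφ : IsExpansionAt P.1 φ) :
    Valued.v (LocRes.D F (φ (algebraMap (RatFunc k) K RatFunc.X))) =
      exp (-(P.ord (algebraMap (RatFunc k) K (algebraMap k[X] (RatFunc k) q)) +
        ((q.natDegree : ℤ) + (if 1 < Pinf.1 g then (1 - Pinf.ord g) / 2 else 0) - 2) *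
          (conorm K (Finsupp.single Pinf 1) : Divisor k K) P)) := by
  classical
  have hK := ff0_rat (k := k)
  have : CharP k 2 := h2 ▸ ringChar.charP k
  have : CharP K 2 := charP_of_injective_algebraMap (algebraMap k K).injective 2
  have : CharP F 2 := charP_of_injective_algebraMap (algebraMap k F).injective 2
  have : CharP (LaurentSeries F) 2 := charP_of_injective_ringHom (HahnSeries.C (Γ := ℤ) (R := F)).injective 2
  set x := algebraMap (RatFunc k) K RatFunc.X
  obtain ⟨P₀, e, hepos, he⟩ := exists_over (K := RatFunc k) hK P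
  let _ : Algebra P₀.O K := ((algebraMap (RatFunc k) K).comp (algebraMap P₀.O (RatFunc k))).toAlgebra
  have : IsScalarTower P₀.O (RatFunc k) K := IsScalarTower.of_algebraMap_eq fun _ => rfl
  rw [conorm_apply hK _ he, ord_map he]
  have hqinf : ∀ R : Place k (RatFunc k), 1 < R.1 RatFunc.X → R.ord (algebraMap k[X] (RatFunc k) q) = -(q.natDegree : ℤ) :=
    fun R hR => by
      rw [Place.ord, ← aeval_X_eq, aeval_eq_pow R hR hq0, (infinite_place R hR).1, ← exp_nsmul, log_exp]; simp
  by_cases hpole : 1 < P₀.1 g
  · -- ramified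
    have hg0 : g ≠ 0 := fun h => by rw [h, map_zero] at hpole; exact not_lt_zero' hpole
    have hneg : P₀.ord g < 0 := by
      rw [v_eq_exp P₀ hg0, ← exp_zero, exp_lt_exp] at hpole; omega
    have hy0 : y ≠ 0 := fun h => hy ⟨0, by rw [h, map_zero]⟩
    have hgt : 1 < P.1 y := by
      by_contra hle
      push Not at hle
      have h1 : P.1 (y ^ 2 + y) ≤ 1 := (Valuation.map_add _ _ _).trans (max_le (by rw [map_pow]; exact pow_le_one₀ zero_le hle) hle)
      rw [heq, over_le_iff he] at h1
      exact hpole.not_ge h1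
    have key : 2 * P.ord y = e * P₀.ord g := by
      have hlt : P.1 y < P.1 (y ^ 2) := by
        rw [map_pow, pow_two]; exact lt_mul_of_one_lt_left (zero_lt_one.trans hgt) hgt
      have hv := Valuation.map_add_eq_of_lt_left P.1 hlt
      rw [← ord_map he, ← heq, Place.ord, Place.ord, hv, map_pow, log_pow, nsmul_eq_mul]
      push_cast; ring
    obtain ⟨rfl, -, -⟩ := ram_of_odd hK hdeg he (hodd P₀ hpole) key
    obtain ⟨N, hN⟩ : ∃ N : ℤ, P₀.ord g = -(2 * N - 1) := by
      obtain ⟨r, hr⟩ := hodd P₀ hpole
      exact ⟨-r, by omega⟩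
    have hyo : P.ord y = -(2 * N - 1) := by push_cast at key; omega
    have hDy : Valued.v (LocRes.D F (φ y)) = exp (2 * N) := by
      have hnz : (((-(2 * N - 1)) : ℤ) : F) ≠ 0 := by
        push_cast; rw [CharTwo.two_eq_zero]; simp
      rw [D_exact hφ hnz (by rw [v_eq_exp P hy0, hyo])]
      congr 1; omega
    have hDg : LocRes.D F (φ (algebraMap (RatFunc k) K g)) = LocRes.D F (φ y) := by
      rw [← heq, map_add, map_add, pow_two, D_mul, CharTwo.add_self_eq_zero, zero_add]
    -- `g = a(x) / b(x)`
    have hden : algebraMap k[X] (RatFunc k) g.denom ≠ 0 := RatFunc.algebraMap_ne_zero (RatFunc.denom_ne_zero g)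
    have hfrac : algebraMap (RatFunc k) K g * aeval x g.denom = aeval x g.num := by
      rw [aeval_x, aeval_x, ← map_mul]
      conv_lhs => arg 2; arg 1; rw [← RatFunc.num_div_denom g]
      rw [div_mul_cancel₀ _ hden]
    set W := derivative g.num * g.denom - g.num * derivative g.denom
    have hW : φ (aeval x W) * LocRes.D F (φ x) = φ (aeval x g.denom) ^ 2 * LocRes.D F (φ y) := by
      have h := congrArg (fun z => LocRes.D F (φ z)) hfrac
      simp only [D_mul, D_poly, hDg] at h
      simp only [W, map_sub, map_mul]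
      have hf' : φ (aeval x g.num) = φ (algebraMap (RatFunc k) K g) * φ (aeval x g.denom) := by rw [← map_mul, hfrac]
      linear_combination (-φ (aeval x g.denom)) * h - (φ (aeval x (derivative g.denom)) * LocRes.D F (φ x)) * hf'
    have hWv : P.1 (aeval x W) * Valued.v (LocRes.D F (φ x)) = P.1 (aeval x g.denom) ^ 2 * exp (2 * N) := by
      rw [← vD hφ, hW, map_mul, map_pow, hφ.1, hDy]
    by_cases hfin : P₀.1 RatFunc.X ≤ 1
    · rw [Finsupp.single_eq_of_ne (fun h => by subst h; exact hinf.not_ge hfin), mul_zero, mul_zero, add_zero, hq P₀ hfin,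
        if_pos hpole, hN]
      obtain ⟨p, -, hp, hpP⟩ := exists_prime P₀ hfin
      have hvp := v_prime P₀ hfin hp hpP
      obtain ⟨M, hM⟩ : ∃ M : ℕ, (M : ℤ) = 2 * N - 1 := ⟨(2 * N - 1).toNat, by omega⟩
      have hgb : P₀.1 (aeval (RatFunc.X : RatFunc k) g.denom) = exp (-(M : ℤ)) * P₀.1 (aeval (RatFunc.X : RatFunc k) g.num) := by
        have h : g * aeval (RatFunc.X : RatFunc k) g.denom = aeval (RatFunc.X : RatFunc k) g.num := by
          rw [aeval_X_eq, aeval_X_eq]
          conv_lhs => arg 1; rw [← RatFunc.num_div_denom g]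
          rw [div_mul_cancel₀ _ hden]
        rw [← h, map_mul, v_eq_exp P₀ hg0, hN, hM, ← mul_assoc, ← exp_add, neg_neg, neg_add_cancel, exp_zero, one_mul]
      have hdn : p ∣ g.denom := dvd_of_lt P₀ hfin hp hpP (by
        rw [hgb]
        refine (mul_le_of_le_one_right' (aeval_le_one P₀ hfin _)).trans_lt ((exp_lt_exp.2 (by omega)).trans_eq exp_zero))
      have hnn : ¬ p ∣ g.num := fun hn => hp.not_isUnit ((RatFunc.isCoprime_num_denom g).isUnit_of_dvd' hn hdn)
      have hnum1 : P₀.1 (aeval (RatFunc.X : RatFunc k) g.num) = 1 := not_dvd_unit P₀ hfin hp hpP hnn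
      rw [hnum1, mul_one] at hgb
      obtain ⟨c, v, hv, hv'⟩ := WfDvdMonoid.max_power_factor (RatFunc.denom_ne_zero g) hp
      have hc : c = M := by
        rw [hv', map_mul, map_pow, map_mul, map_pow, not_dvd_unit P₀ hfin hp hpP hv, hvp, mul_one, ← exp_nsmul, exp_inj,
          nsmul_eq_mul] at hgb
        omega
      subst hc
      obtain ⟨c, rfl⟩ : ∃ c', c = c' + 1 := ⟨c - 1, by omega⟩
      have hcodd : Even c := by
        rcases Nat.even_or_odd c with h | ⟨r, hr⟩
        · exact h
        · exfalso; subst hr; push_cast at hM; omega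
      have hW' : W = p ^ c * (p * (derivative g.num * v - g.num * derivative v) - g.num * v * derivative p) := by
        have hc1 : ((c + 1 : ℕ) : k[X]) = 1 := by
          obtain ⟨r, rfl⟩ := hcodd
          push_cast
          rw [CharTwo.add_self_eq_zero, zero_add]
        simp only [W, hv', derivative_mul, derivative_pow_succ, map_add, map_natCast, map_one]
        rw [show ((c : k[X]) + 1) = 1 by exact_mod_cast hc1]
        ring
      have hp' : P₀.1 (aeval (RatFunc.X : RatFunc k) (derivative p)) = 1 := by
        refine not_dvd_unit P₀ hfin hp hpP fun hd => ?_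
        have hsep := PerfectField.separable_of_irreducible hp
        exact hp.not_isUnit (hsep.isUnit_of_dvd' dvd_rfl hd)
      have hbr : P₀.1 (aeval (RatFunc.X : RatFunc k)
          (p * (derivative g.num * v - g.num * derivative v) - g.num * v * derivative p)) = 1 := by
        rw [map_sub]
        have h1 : P₀.1 (aeval (RatFunc.X : RatFunc k) (g.num * v * derivative p)) = 1 := by
          rw [map_mul, map_mul, map_mul, map_mul, hnum1, not_dvd_unit P₀ hfin hp hpP hv, hp', one_mul, one_mul]
        rw [Valuation.map_sub_eq_of_lt_right, h1]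
        rw [h1, map_mul, map_mul]
        exact (mul_le_of_le_one_right' (aeval_le_one P₀ hfin _)).trans_lt hpP
      rw [aeval_algebraMap_apply, aeval_algebraMap_apply, he, he, hgb, hW', map_mul, map_mul, map_pow, map_pow, hbr, hvp,
        mul_one, ← exp_nsmul, ← exp_nsmul, ← exp_nsmul, ← exp_nsmul, ← exp_add] at hWv
      have hDv : Valued.v (LocRes.D F (φ x)) = exp (-(2 * N)) := by
        obtain ⟨d, hd⟩ : ∃ d, log (Valued.v (LocRes.D F (φ x))) = d := ⟨_, rfl⟩
        have h0 : Valued.v (LocRes.D F (φ x)) ≠ 0 := right_ne_zero_of_mul (hWv.trans_ne exp_ne_zero)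
        rw [← exp_log h0, hd] at hWv ⊢
        rw [← exp_add, exp_inj] at hWv
        simp only [nsmul_eq_mul] at hWv
        congr 1
        push_cast at hWv hM ⊢
        omega
      rw [hDv]; congr 1; push_cast; omega
    · push Not at hfin
      obtain ⟨hX, -, honly⟩ := infinite_place Pinf hinf
      obtain rfl : P₀ = Pinf := honly P₀ hfin
      rw [Finsupp.single_eq_same, mul_one, if_pos hpole, hqinf P₀ hinf, hN]
      have hnum0 : g.num ≠ 0 := RatFunc.num_ne_zero hg0
      have hd0 := RatFunc.denom_ne_zero g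
      have hdd : (g.num.natDegree : ℤ) - g.denom.natDegree = 2 * N - 1 := by
        have h := congrArg P₀.1 (show g * aeval (RatFunc.X : RatFunc k) g.denom = aeval (RatFunc.X : RatFunc k) g.num by
          rw [aeval_X_eq, aeval_X_eq]
          conv_lhs => arg 1; rw [← RatFunc.num_div_denom g]
          rw [div_mul_cancel₀ _ hden])
        rw [map_mul, aeval_eq_pow P₀ hfin hnum0, aeval_eq_pow P₀ hfin hd0, hX, v_eq_exp P₀ hg0, hN, ← exp_nsmul, ← exp_nsmul,
          ← exp_add, exp_inj] at h
        simp at h; omega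
      obtain ⟨a, ha⟩ : ∃ a, g.num.natDegree = a + 1 := ⟨g.num.natDegree - 1, by omega⟩
      have hco : W.coeff (a + g.denom.natDegree) = g.num.leadingCoeff * g.denom.leadingCoeff := by
        rcases Nat.eq_zero_or_pos g.denom.natDegree with hb | hb
        · obtain ⟨d, hd⟩ := Polynomial.natDegree_eq_zero.1 hb
          have hlast : ((a : k) + 1) = 1 := by
            have hev : Even a := by
              rcases Nat.even_or_odd a with h | ⟨r, hr⟩
              · exact h
              · exfalso; omega
            obtain ⟨r, rfl⟩ := hev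
            push_cast; rw [CharTwo.add_self_eq_zero, zero_add]
          simp only [W, ← hd, derivative_C, mul_zero, sub_zero, coeff_mul_C, leadingCoeff_C, natDegree_C, add_zero,
            coeff_derivative, hlast, mul_one]
          rw [← ha]; rfl
        · obtain ⟨b, hb'⟩ : ∃ b, g.denom.natDegree = b + 1 := ⟨g.denom.natDegree - 1, by omega⟩
          have e1 : (derivative g.num * g.denom).coeff (a + g.denom.natDegree) =
              (derivative g.num).coeff a * g.denom.coeff g.denom.natDegree :=
            coeff_mul_add_eq_of_natDegree_le (by rw [← Nat.lt_succ_iff, Nat.succ_eq_add_one, ← ha]; exact natDegree_derivative_lt (by omega)) le_rfl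
          have e2 : (g.num * derivative g.denom).coeff (g.num.natDegree + b) =
              g.num.coeff g.num.natDegree * (derivative g.denom).coeff b :=
            coeff_mul_add_eq_of_natDegree_le le_rfl (by rw [← Nat.lt_succ_iff, Nat.succ_eq_add_one, ← hb']; exact natDegree_derivative_lt (by omega))
          simp only [W, coeff_sub, e1]
          rw [show a + g.denom.natDegree = g.num.natDegree + b by omega, e2, coeff_derivative, coeff_derivative, ← ha, ← hb',
            coeff_natDegree, coeff_natDegree]
          have hsub : ((a : k) + 1) - ((b : k) + 1) = 1 := by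
            obtain ⟨r, hr⟩ : ∃ r : ℤ, (a : ℤ) - b = 2 * r + 1 := ⟨N - 1, by omega⟩
            have h' := congrArg (Int.cast : ℤ → k) hr
            push_cast at h'
            rw [CharTwo.two_eq_zero, zero_mul, zero_add] at h'
            linear_combination h'
          linear_combination (g.num.leadingCoeff * g.denom.leadingCoeff) * hsub
      have hWdeg : W.natDegree = a + g.denom.natDegree := by
        refine natDegree_eq_of_le_of_coeff_ne_zero ?_ (by
          rw [hco]; exact mul_ne_zero (leadingCoeff_ne_zero.2 hnum0) (leadingCoeff_ne_zero.2 hd0))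
        refine (natDegree_sub_le _ _).trans (max_le ?_ ?_)
        · refine natDegree_mul_le.trans ?_
          have := natDegree_derivative_le g.num; omega
        · rcases Nat.eq_zero_or_pos g.denom.natDegree with hb | hb
          · rw [derivative_of_natDegree_zero hb, mul_zero, natDegree_zero]; exact Nat.zero_le _
          · refine natDegree_mul_le.trans ?_
            have := natDegree_derivative_lt (p := g.denom) (by omega); omega
      have hW0 : W ≠ 0 := fun h => mul_ne_zero (leadingCoeff_ne_zero.2 hnum0) (leadingCoeff_ne_zero.2 hd0) (by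
        rw [← hco, h, coeff_zero])
      have hxP : 1 < P.1 x := by rw [he]; exact one_lt_pow₀ hfin two_ne_zero
      rw [aeval_eq_pow P hxP hW0, aeval_eq_pow P hxP hd0, he, hX, ← exp_nsmul, ← exp_nsmul, ← exp_nsmul, ← exp_nsmul, hWdeg,
        ← exp_add] at hWv
      obtain ⟨d, hd⟩ : ∃ d, log (Valued.v (LocRes.D F (φ x))) = d := ⟨_, rfl⟩
      have h0 : Valued.v (LocRes.D F (φ x)) ≠ 0 := right_ne_zero_of_mul (hWv.trans_ne exp_ne_zero)
      rw [← exp_log h0, hd] at hWv ⊢
      rw [← exp_add, exp_inj] at hWv
      simp only [nsmul_eq_mul] at hWv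
      congr 1
      push_cast at hWv ⊢
      omega
  · -- unramified
    push Not at hpole
    have h1 : e = 1 := unram_of_unit hK hdeg he (y := y) (α := 1) (β := -g) hy
      (by rw [map_one, one_mul, map_neg, heq, add_neg_cancel]) (by rw [map_one]) (by rwa [Valuation.map_neg])
      (by rw [CharTwo.two_eq_zero, zero_mul, zero_add, map_one, map_one])
    subst h1
    by_cases hfin : P₀.1 RatFunc.X ≤ 1
    · rw [Finsupp.single_eq_of_ne (fun h => by subst h; exact hinf.not_ge hfin), mul_zero, mul_zero, add_zero, hq P₀ hfin,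
        if_neg hpole.not_gt, D_x_unramified hφ he hfin, mul_zero]
      simp
    · push Not at hfin
      obtain ⟨-, -, honly⟩ := infinite_place Pinf hinf
      obtain rfl : P₀ = Pinf := honly P₀ hfin
      rw [Finsupp.single_eq_same, mul_one, if_neg hpole.not_gt, D_x_infinite_unramified hφ he hinf, hqinf P₀ hinf]
      congr 1
      push_cast; ring

end Groth.Agent.FunFldLib.Quad
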