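import Groth.Agent.FunFldLib.Diff.Dual

/-! Ramification in quadratic extensions. -/

set_option autoImplicit false

open WithZero Polynomial
open scoped IntermediateField

namespace Groth.Agent.FunFldLib.Quad

open FunFld Groth.Agent.FunFldLib

variable {k K K' : Type*} [Field k] [Field K] [Field K'] [Algebra k K] [Algebra K K'] [Algebra k K']
  [IsScalarTower k K K'] [FiniteDimensional K K'] {P : Place k K} {Q : Place k K'} {e : ℕ}

/-- the residue degree is at least one -/
theorem deg_ge (hK : IsFF0 k K) (he : IsOverWith Q P e) : P.deg ≤ Q.deg := by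
  have : P.1.HasExtension Q.1 :=
    ⟨Valuation.isEquiv_iff_val_le_one.2 fun {x} => (over_le_iff he x).symm⟩
  have : FiniteDimensional k (IsLocalRing.ResidueField Q.O) := Module.finite_of_finrank_pos (deg_pos (ff0_ext (K' := K') hK) Q)
  let g : IsLocalRing.ResidueField P.O →ₗ[k] IsLocalRing.ResidueField Q.O :=
    { toFun := algebraMap (IsLocalRing.ResidueField P.O) (IsLocalRing.ResidueField Q.O)
      map_add' := map_add _
      map_smul' := fun c x => by
        refine (congrArg (algebraMap (IsLocalRing.ResidueField P.O) (IsLocalRing.ResidueField Q.O))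
          (Algebra.smul_def c x)).trans ?_
        rw [map_mul, RingHom.id_apply]
        refine Eq.trans ?_ (Algebra.smul_def (R := k) c (algebraMap (IsLocalRing.ResidueField P.O) (IsLocalRing.ResidueField Q.O) x)).symm
        congr 1
        exact congrArg (IsLocalRing.residue Q.O) (Subtype.ext (IsScalarTower.algebraMap_apply k K K' c).symm) }
  exact LinearMap.finrank_le_finrank_of_injective (f := g) (RingHom.injective _)

theorem e_le_two (hK : IsFF0 k K) (hdeg : Module.finrank K K' = 2) (he : IsOverWith Q P e) :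
    e ≤ 2 ∧ (e = 2 → Q.deg = P.deg ∧ ∀ R : Place k K', IsOver R P → R = Q) := by
  classical
  set Qs := (finite_over_place (K' := K') hK P).toFinset
  have hQs : ∀ R, R ∈ Qs ↔ IsOver R P := fun R => Set.Finite.mem_toFinset _
  have h := sum_ramIdx_deg0 hK P Qs hQs
  rw [← Finset.add_sum_erase Qs _ ((hQs Q).2 ⟨e, he⟩), ramIdx_eq he, hdeg] at h
  have h1 := deg_ge hK he
  have hP := deg_pos hK P
  have h2 : e * P.deg ≤ e * Q.deg := Nat.mul_le_mul_left e h1
  refine ⟨Nat.le_of_mul_le_mul_right (by omega) hP, fun h3 => ?_⟩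
  subst h3
  refine ⟨by omega, fun R hR => ?_⟩
  by_contra hne
  have h0 : ∑ R ∈ Qs.erase Q, ramIdx R P * R.deg = 0 := by omega
  have h4 := Finset.sum_eq_zero_iff.1 h0 R (Finset.mem_erase.2 ⟨hne, (hQs R).2 hR⟩)
  obtain ⟨e', he'⟩ := hR
  rw [ramIdx_eq he'] at h4
  have := over_pos he'
  have := deg_pos (ff0_ext (K' := K') hK) R
  rcases Nat.mul_eq_zero.1 h4 with h5 | h5 <;> omega

theorem exists_above (hK : IsFF0 k K) (P : Place k K) : ∃ (Q : Place k K') (e : ℕ), IsOverWith Q P e := by
  classical
  by_contra hno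
  push Not at hno
  have h := sum_ramIdx_deg0 (K' := K') hK P ∅ fun Q => by simpa [IsOver] using hno Q
  rw [Finset.sum_empty] at h
  exact (Nat.mul_pos Module.finrank_pos (deg_pos hK P)).ne h

omit [IsScalarTower k K K'] [Algebra k K] [Algebra k K'] in
theorem separable_of_two (hdeg : Module.finrank K K' = 2) (h2 : (2 : K) ≠ 0) : Algebra.IsSeparable K K' := by
  refine ⟨fun x => (separable_iff_derivative_ne_zero (minpoly.irreducible (.of_finite K x))).2 fun h => ?_⟩
  have hm := minpoly.monic (IsIntegral.of_finite K x)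
  have hle : (minpoly K x).natDegree ≤ 2 := hdeg ▸ minpoly.natDegree_le x
  have hpos : 0 < (minpoly K x).natDegree := minpoly.natDegree_pos (.of_finite K x)
  have h1 := congrArg (fun q : K[X] => q.coeff ((minpoly K x).natDegree - 1)) h
  simp only [coeff_derivative, coeff_zero] at h1
  rw [Nat.sub_add_cancel hpos, hm.coeff_natDegree, one_mul] at h1
  interval_cases hn : (minpoly K x).natDegree
  · simp at h1
  · norm_num at h1
    exact h2 h1

/-- an element whose order is twice an odd multiple forces ramification -/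
theorem ram_of_odd (hK : IsFF0 k K) (hdeg : Module.finrank K K' = 2) (he : IsOverWith Q P e) {w : K'} {a : K}
    (ha : Odd (P.ord a)) (hw : 2 * Q.ord w = (e : ℤ) * P.ord a) :
    e = 2 ∧ Q.deg = P.deg ∧ ∀ R : Place k K', IsOver R P → R = Q := by
  have h1 := over_pos he
  have h2 := e_le_two hK hdeg he
  have h3 : e = 2 := by
    by_contra hne
    rw [show e = 1 by omega, Nat.cast_one, one_mul] at hw
    exact (Int.not_even_iff_odd.2 ha) ⟨Q.ord w, by omega⟩
  exact ⟨h3, h2.2 h3⟩

/-- an integral generator with invertible derivative is unramified -/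
theorem unram_of_unit [Algebra.IsSeparable K K'] [Algebra P.O K'] [IsScalarTower P.O K K'] (hK : IsFF0 k K)
    (hdeg : Module.finrank K K' = 2) (he : IsOverWith Q P e) {y : K'} {α β : K}
    (hy : y ∉ Set.range (algebraMap K K')) (heq : y ^ 2 + algebraMap K K' α * y + algebraMap K K' β = 0)
    (hα : P.1 α ≤ 1) (hβ : P.1 β ≤ 1) (hunit : Q.1 (2 * y + algebraMap K K' α) = 1) : e = 1 := by
  by_contra hne
  have h2 := e_le_two hK hdeg he
  obtain rfl : e = 2 := by have := over_pos he; omega
  obtain ⟨hdegQ, honly⟩ := h2.2 rfl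
  have hQle : ∀ c : K, P.1 c ≤ 1 → Q.1 (algebraMap K K' c) ≤ 1 := fun c hc => (over_le_iff he c).2 hc
  have hy1 : Q.1 y ≤ 1 := by
    by_contra hgt
    push Not at hgt
    have hlt : Q.1 (algebraMap K K' α * y + algebraMap K K' β) < Q.1 (y ^ 2) := by
      rw [map_pow, pow_two]
      refine (Valuation.map_add _ _ _).trans_lt (max_lt ?_ ?_)
      · rw [map_mul]
        exact (mul_le_of_le_one_left zero_le (hQle _ hα)).trans_lt (lt_mul_of_one_lt_left (zero_lt_one.trans hgt) hgt)
      · exact (hQle _ hβ).trans_lt (hgt.trans (lt_mul_of_one_lt_left (zero_lt_one.trans hgt) hgt))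
    have h := Valuation.map_add_eq_of_lt_left Q.1 hlt
    rw [← add_assoc, heq, map_zero, map_pow] at h
    exact (pow_pos (zero_lt_one.trans hgt) 2).ne h
  have : P.1.HasExtension Q.1 :=
    ⟨Valuation.isEquiv_iff_val_le_one.2 fun {x} => (over_le_iff he x).symm⟩
  have hsurj : Function.Surjective (algebraMap (IsLocalRing.ResidueField P.O) (IsLocalRing.ResidueField Q.O)) := by
    have : FiniteDimensional k (IsLocalRing.ResidueField Q.O) := Module.finite_of_finrank_pos (deg_pos (ff0_ext (K' := K') hK) Q)
    have : FiniteDimensional k (IsLocalRing.ResidueField P.O) := Module.finite_of_finrank_pos (deg_pos hK P)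
    let g : IsLocalRing.ResidueField P.O →ₗ[k] IsLocalRing.ResidueField Q.O :=
      { toFun := algebraMap (IsLocalRing.ResidueField P.O) (IsLocalRing.ResidueField Q.O)
        map_add' := map_add _
        map_smul' := fun c x => by
          refine (congrArg (algebraMap (IsLocalRing.ResidueField P.O) (IsLocalRing.ResidueField Q.O))
            (Algebra.smul_def c x)).trans ?_
          rw [map_mul, RingHom.id_apply]
          refine Eq.trans ?_ (Algebra.smul_def (R := k) c (algebraMap (IsLocalRing.ResidueField P.O) (IsLocalRing.ResidueField Q.O) x)).symm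
          congr 1
          exact congrArg (IsLocalRing.residue Q.O) (Subtype.ext (IsScalarTower.algebraMap_apply k K K' c).symm) }
    exact (LinearMap.injective_iff_surjective_of_finrank_eq_finrank (f := g) hdegQ.symm).1 (RingHom.injective _)
  obtain ⟨c, hc⟩ := Diff.residue_approx hsurj hy1
  set z := y - algebraMap K K' (c : K)
  set g : K := -((c : K) ^ 2 + α * c + β)
  have hzeq : z * (z + algebraMap K K' (2 * (c : K) + α)) = algebraMap K K' g := by
    simp only [z, g, map_neg, map_add, map_mul, map_pow, map_ofNat]; linear_combination heq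
  have hu : Q.1 (z + algebraMap K K' (2 * (c : K) + α)) = 1 := by
    rw [show z + algebraMap K K' (2 * (c : K) + α) = (2 * y + algebraMap K K' α) + -z by
      simp only [z, map_add, map_mul, map_ofNat]; ring,
      Valuation.map_add_eq_of_lt_left _ (by rw [Valuation.map_neg, hunit]; exact hc), hunit]
  have hzv : Q.1 z = P.1 g ^ 2 := by
    rw [← he g, ← hzeq, map_mul, hu, mul_one]
  have hPg : P.1 g ≤ exp (-1) := by
    rw [← lt_one_iff_le]
    by_contra h
    push Not at h
    exact (hzv ▸ hc).not_ge (one_le_pow₀ h)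
  have hz2 : Q.1 z ≤ exp (-2) := hzv ▸ (pow_le_pow_left₀ zero_le hPg 2).trans_eq (by rw [← exp_nsmul]; rfl)
  have hyi : IsIntegral P.O y := Diff.isIntegral_of_le_one hK fun R hR => honly R hR ▸ hy1
  have hgen : K⟮y⟯ = ⊤ := by
    refine IntermediateField.eq_of_le_of_finrank_eq le_top ?_
    rw [IntermediateField.finrank_top', hdeg]
    have hne1 : Module.finrank K K⟮y⟯ ≠ 1 := fun h => hy (by
      rw [IntermediateField.finrank_eq_one_iff] at h
      exact IntermediateField.mem_bot.1 (h ▸ IntermediateField.mem_adjoin_simple_self K y))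
    have hd : Module.finrank K K⟮y⟯ ∣ 2 := ⟨_, hdeg.symm.trans (Module.finrank_mul_finrank K K⟮y⟯ K').symm⟩
    exact (Nat.prime_two.eq_one_or_self_of_dvd _ hd).resolve_left hne1
  -- every integral element is `a + b z` modulo the unit `f'(y)`
  obtain ⟨s, hs0, hsv⟩ := exists_exp Q (-1)
  have hsi : IsIntegral P.O s := Diff.isIntegral_of_le_one hK fun R hR => by
    rw [honly R hR, hsv]; exact (exp_le_exp.2 (by omega)).trans_eq exp_zero
  have hmem := (Diff.dual_iff hgen hyi s).1 fun b hb => Tate.trace_int hK P fun R hR => by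
    rw [map_mul]; exact mul_le_one₀ (Diff.le_one_of_isIntegral hsi hR) zero_le (Diff.le_one_of_adjoin hK hyi hb hR)
  have hrep : ∀ w ∈ Algebra.adjoin P.O ({y} : Set K'), ∃ a b : P.O, w = algebraMap K K' (a : K) + algebraMap K K' (b : K) * z := by
    intro w hw
    induction hw using Algebra.adjoin_induction with
    | mem x hx => exact ⟨c, 1, by rw [Set.mem_singleton_iff.1 hx]; simp [z]⟩
    | algebraMap a => exact ⟨a, 0, by simp [IsScalarTower.algebraMap_apply P.O K K']⟩
    | add u v _ _ hu hv =>
      obtain ⟨a, b, rfl⟩ := hu; obtain ⟨a', b', rfl⟩ := hv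
      exact ⟨a + a', b + b', by simp [map_add]; ring⟩
    | mul u v _ _ hu hv =>
      obtain ⟨a, b, rfl⟩ := hu; obtain ⟨a', b', rfl⟩ := hv
      have hgO : P.1 g ≤ 1 := hPg.trans ((exp_le_exp.2 (by omega)).trans_eq exp_zero)
      have hαO : P.1 (2 * (c : K) + α) ≤ 1 :=
        (Valuation.map_add _ _ _).trans (max_le (by
          rw [two_mul]; exact (Valuation.map_add _ _ _).trans (max_le c.2 c.2)) hα)
      refine ⟨a * a' + b * b' * ⟨g, hgO⟩, a * b' + b * a' - b * b' * ⟨_, hαO⟩, ?_⟩
      simp only [MulMemClass.coe_mul, AddMemClass.coe_add, AddSubgroupClass.coe_sub, map_add, map_sub, map_mul]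
      have hzeq' := hzeq
      rw [map_add, map_mul] at hzeq'
      linear_combination (algebraMap K K' (b : K) * algebraMap K K' (b' : K)) * hzeq'
  have hfy : aeval y (derivative (minpoly K y)) = 2 * y + algebraMap K K' α := by
    have hm : minpoly K y = X ^ 2 + C α * X + C β := by
      refine (minpoly.unique' K y (by monicity!) (by simp [aeval_C, heq]) fun q hq => ?_).symm
      refine or_iff_not_imp_left.2 fun hq0 hq' => ?_
      have h1 : q.degree < 2 := hq.trans_le (by compute_degree!)
      have h2 : (minpoly K y).natDegree ≤ q.natDegree := natDegree_le_of_dvd (minpoly.dvd K y hq') hq0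
      rw [← IntermediateField.adjoin.finrank (.of_finite K y), hgen, IntermediateField.finrank_top', hdeg] at h2
      rw [degree_eq_natDegree hq0] at h1
      have : q.natDegree < 2 := by exact_mod_cast h1
      omega
    rw [hm]; simp [aeval_C]; norm_num
  rw [hfy] at hmem
  obtain ⟨a, b, hab⟩ := hrep _ hmem
  have hv : Q.1 (s * (2 * y + algebraMap K K' α)) = exp (-1) := by rw [map_mul, hunit, mul_one, hsv]
  rw [hab] at hv
  have hbz : Q.1 (algebraMap K K' (b : K) * z) ≤ exp (-2) := by
    rw [map_mul]; exact (mul_le_of_le_one_left zero_le (hQle _ b.2)).trans hz2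
  have hlt : Q.1 (algebraMap K K' (b : K) * z) < exp (-1) := hbz.trans_lt (exp_lt_exp.2 (by omega))
  have ha' : Q.1 (algebraMap K K' (a : K)) = exp (-1) := by
    rcases lt_trichotomy (Q.1 (algebraMap K K' (a : K))) (exp (-1)) with h | h | h
    · exact absurd hv ((Valuation.map_add _ _ _).trans_lt (max_lt h hlt)).ne
    · exact h
    · rw [Valuation.map_add_eq_of_lt_left _ (hlt.trans h)] at hv; exact absurd hv h.ne'
  rw [he] at ha'
  have h0 : P.1 (a : K) ≠ 0 := fun h0 => by rw [h0, zero_pow two_ne_zero] at ha'; exact exp_ne_zero ha'.symm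
  rw [← exp_log h0, ← exp_nsmul, exp_inj, nsmul_eq_mul] at ha'
  omega

end Groth.Agent.FunFldLib.Quad
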