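import Groth.Agent.FunFldLib.Quad.Rat
import Groth.Agent.FunFldLib.Quad.Ram
import Mathlib.FieldTheory.Perfect
import Mathlib.RingTheory.AdjoinRoot

/-! Normal forms of quadratic extensions of the rational function field. -/

set_option autoImplicit false

universe u v

open WithZero Polynomial
open scoped IntermediateField

namespace Groth.Agent.FunFldLib.Quad

open FunFld Groth.Agent.FunFldLib

section Quadratic

variable {L K : Type*} [Field L] [Field K] [Algebra L K]

theorem adjoin_eq_top (hdeg : Module.finrank L K = 2) {y : K} (hy : y ∉ Set.range (algebraMap L K)) : L⟮y⟯ = ⊤ := by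
  have : FiniteDimensional L K := Module.finite_of_finrank_pos (by omega)
  refine IntermediateField.eq_of_le_of_finrank_eq le_top ?_
  rw [IntermediateField.finrank_top', hdeg]
  have hne1 : Module.finrank L L⟮y⟯ ≠ 1 := fun h => hy (by
    rw [IntermediateField.finrank_eq_one_iff] at h
    exact IntermediateField.mem_bot.1 (h ▸ IntermediateField.mem_adjoin_simple_self L y))
  have hd : Module.finrank L L⟮y⟯ ∣ 2 := ⟨_, hdeg.symm.trans (Module.finrank_mul_finrank L L⟮y⟯ K).symm⟩
  exact (Nat.prime_two.eq_one_or_self_of_dvd _ hd).resolve_left hne1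

/-- a generator and its quadratic equation -/
theorem exists_equation (hdeg : Module.finrank L K = 2) :
    ∃ (α : K) (b c : L), α ∉ Set.range (algebraMap L K) ∧ α ^ 2 + algebraMap L K b * α + algebraMap L K c = 0 ∧
      minpoly L α = X ^ 2 + C b * X + C c := by
  have : FiniteDimensional L K := Module.finite_of_finrank_pos (by omega)
  obtain ⟨α, hα⟩ : ∃ α : K, α ∉ Set.range (algebraMap L K) := by
    by_contra h
    push Not at h
    have h1 := LinearMap.finrank_le_finrank_of_surjective (f := Algebra.linearMap L K) fun x => h x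
    rw [hdeg, Module.finrank_self] at h1
    omega
  have hint : IsIntegral L α := .of_finite L α
  have hn : (minpoly L α).natDegree = 2 := by
    rw [← IntermediateField.adjoin.finrank hint, adjoin_eq_top hdeg hα, IntermediateField.finrank_top', hdeg]
  have hm : minpoly L α = X ^ 2 + C ((minpoly L α).coeff 1) * X + C ((minpoly L α).coeff 0) := by
    conv_lhs => rw [(minpoly.monic hint).as_sum, hn]
    simp [Finset.sum_range_succ]; ring
  refine ⟨α, _, _, hα, ?_, hm⟩
  have h := minpoly.aeval L α
  rw [hm] at h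
  simpa [aeval_C] using h

end Quadratic

variable {k : Type u} [Field k]

theorem aeval_X_eq (f : k[X]) : aeval (RatFunc.X : RatFunc k) f = algebraMap k[X] (RatFunc k) f :=
  RatFunc.aeval_X_left_eq_algebraMap f

theorem not_square {f : k[X]} (hf : Squarefree f) (hd : 1 ≤ f.natDegree) (r : RatFunc k) :
    r ^ 2 ≠ algebraMap k[X] (RatFunc k) f := fun h => by
  refine y_not_mem transX hf hd (y := r) (by rw [aeval_X_eq]; exact h) ?_
  rw [adjoin_X_top]; trivial

theorem not_mem_range {K : Type v} [Field K] [Algebra (RatFunc k) K] {y : K} {f : k[X]} (hf : Squarefree f)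
    (hd : 1 ≤ f.natDegree) (heq : y ^ 2 = algebraMap (RatFunc k) K (algebraMap k[X] (RatFunc k) f)) :
    y ∉ Set.range (algebraMap (RatFunc k) K) := by
  rintro ⟨r, rfl⟩
  rw [← map_pow] at heq
  exact not_square hf hd r ((algebraMap (RatFunc k) K).injective heq)

theorem exists_squarefree_mul_sq (g : k[X]) (hg : g ≠ 0) : ∃ u f : k[X], Squarefree f ∧ g = f * u ^ 2 := by
  induction hn : g.natDegree using Nat.strong_induction_on generalizing g with
  | _ n ih =>
    by_cases hs : Squarefree g
    · exact ⟨1, g, hs, by ring⟩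
    · rw [Squarefree] at hs
      push Not at hs
      obtain ⟨x, ⟨h, hx⟩, hu⟩ := hs
      subst hn
      have hx0 : x ≠ 0 := fun e => hg (by rw [hx, e, zero_mul, zero_mul])
      have hh0 : h ≠ 0 := fun e => hg (by rw [hx, e, mul_zero])
      have hxd : 0 < x.natDegree := Nat.pos_of_ne_zero fun e => hu (by
        rw [Polynomial.isUnit_iff_degree_eq_zero, degree_eq_natDegree hx0, e]; rfl)
      obtain ⟨u, f, hf, hh⟩ := ih h.natDegree (by rw [hx, natDegree_mul (mul_ne_zero hx0 hx0) hh0, natDegree_mul hx0 hx0]; omega) h hh0 rfl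
      exact ⟨x * u, f, hf, by rw [hx, hh]; ring⟩

theorem exists_sqrt [PerfectField k] (h2 : ringChar k = 2) (c : k) : ∃ a : k, a ^ 2 = c := by
  have : CharP k 2 := h2 ▸ ringChar.charP k
  have : Fact (Nat.Prime 2) := ⟨Nat.prime_two⟩
  have : ExpChar k 2 := .prime Nat.prime_two
  have : PerfectRing k 2 := PerfectField.toPerfectRing 2
  exact surjective_frobenius k 2 c

/-- removing the leading term of an even pole -/
theorem exists_reduce [PerfectField k] (h2 : ringChar k = 2) (P : Place k (RatFunc k)) {f : RatFunc k} {m : ℕ} (hm : 0 < m)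
    (hf : P.1 f = exp (2 * (m : ℤ))) :
    ∃ g : RatFunc k, P.1 (f - g ^ 2) < exp (2 * (m : ℤ)) ∧ P.1 g ≤ exp (m : ℤ) ∧
      ∀ R : Place k (RatFunc k), R ≠ P → R.1 g ≤ 1 := by
  have hden : aeval (RatFunc.X : RatFunc k) f.denom ≠ 0 := by
    rw [aeval_X_eq]; exact RatFunc.algebraMap_ne_zero (RatFunc.denom_ne_zero f)
  have hfrac : f * aeval (RatFunc.X : RatFunc k) f.denom = aeval (RatFunc.X : RatFunc k) f.num := by
    rw [aeval_X_eq, aeval_X_eq]
    conv_lhs => arg 1; rw [← RatFunc.num_div_denom f]
    rw [div_mul_cancel₀ _ (RatFunc.algebraMap_ne_zero (RatFunc.denom_ne_zero f))]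
  set x : RatFunc k := RatFunc.X
  have hnum : f.num ≠ 0 := RatFunc.num_ne_zero fun h => by rw [h, map_zero] at hf; exact exp_ne_zero hf.symm
  by_cases hfin : P.1 x ≤ 1
  · obtain ⟨p, hpm, hp, hpP⟩ := exists_prime P hfin
    have hvp : P.1 (aeval x p) = exp (-1) := v_prime P hfin hp hpP
    have hp0 : aeval x p ≠ 0 := fun h => hp.ne_zero (transcendental_iff.1 transX _ h)
    obtain ⟨a₀, u, hu, hu'⟩ := WfDvdMonoid.max_power_factor hnum hp
    obtain ⟨b₀, v, hv, hv'⟩ := WfDvdMonoid.max_power_factor (RatFunc.denom_ne_zero f) hp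
    have huv : P.1 (aeval x u) = 1 := not_dvd_unit P hfin hp hpP hu
    have hvv : P.1 (aeval x v) = 1 := not_dvd_unit P hfin hp hpP hv
    have hval := congrArg P.1 hfrac
    rw [hu', hv'] at hval
    simp only [map_mul, map_pow, huv, hvv, hvp, hf, mul_one] at hval
    rw [← exp_nsmul, ← exp_nsmul, ← exp_add, exp_inj, nsmul_eq_mul, nsmul_eq_mul] at hval
    have hb : b₀ = a₀ + 2 * m := by omega
    have hf' : f * aeval x p ^ (2 * m) * aeval x v = aeval x u := by
      have h := hfrac
      rw [hu', hv', map_mul, map_mul, map_pow, map_pow, hb, pow_add] at h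
      refine mul_left_cancel₀ (pow_ne_zero a₀ hp0) ?_
      linear_combination h
    have : Fact (Irreducible p) := ⟨hp⟩
    have : Module.Finite k (AdjoinRoot p) := (AdjoinRoot.powerBasis hp.ne_zero).finite
    have : PerfectField (AdjoinRoot p) := Algebra.IsAlgebraic.perfectField (K := k) (L := AdjoinRoot p)
    have : CharP (AdjoinRoot p) 2 := by
      have : CharP k 2 := h2 ▸ ringChar.charP k
      exact charP_of_injective_algebraMap (algebraMap k (AdjoinRoot p)).injective 2
    have : Fact (Nat.Prime 2) := ⟨Nat.prime_two⟩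
    have : ExpChar (AdjoinRoot p) 2 := .prime Nat.prime_two
    have : PerfectRing (AdjoinRoot p) 2 := PerfectField.toPerfectRing 2
    have hv0 : AdjoinRoot.mk p v ≠ 0 := fun h => hv (AdjoinRoot.mk_eq_zero.1 h)
    obtain ⟨w, hw⟩ := surjective_frobenius (AdjoinRoot p) 2 (AdjoinRoot.mk p u / AdjoinRoot.mk p v)
    obtain ⟨a', rfl⟩ := AdjoinRoot.mk_surjective w
    set a := a' %ₘ p
    have hmk : AdjoinRoot.mk p a = AdjoinRoot.mk p a' := AdjoinRoot.mk_eq_mk.2 ⟨-(a' /ₘ p), by
      linear_combination modByMonic_add_div a' p⟩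
    have hdvd : p ∣ a ^ 2 * v - u := AdjoinRoot.mk_eq_mk.1 (by
      rw [map_mul, map_pow, hmk, show AdjoinRoot.mk p a' ^ 2 = _ from hw, div_mul_cancel₀ _ hv0])
    have hlt : P.1 (f * aeval x p ^ (2 * m) - aeval x a ^ 2) < 1 := by
      have h1 : (f * aeval x p ^ (2 * m) - aeval x a ^ 2) * aeval x v = -aeval x (a ^ 2 * v - u) := by
        rw [map_sub, map_mul, map_pow]; linear_combination hf'
      obtain ⟨q, hq⟩ := hdvd
      have h2 : P.1 ((f * aeval x p ^ (2 * m) - aeval x a ^ 2) * aeval x v) < 1 := by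
        rw [h1, Valuation.map_neg, hq, map_mul, map_mul]
        exact (mul_le_of_le_one_right' (aeval_le_one P hfin q)).trans_lt hpP
      rwa [map_mul, hvv, mul_one] at h2
    refine ⟨aeval x a / aeval x p ^ m, ?_, ?_, fun R hR => ?_⟩
    · rw [show f - (aeval x a / aeval x p ^ m) ^ 2 = (f * aeval x p ^ (2 * m) - aeval x a ^ 2) / aeval x p ^ (2 * m) by
        rw [div_pow, ← pow_mul, mul_comm m 2, sub_div, mul_div_cancel_right₀ _ (pow_ne_zero _ hp0)],
        map_div₀, map_pow, hvp, ← exp_nsmul, div_lt_iff₀ exp_pos, ← exp_add]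
      refine hlt.trans_eq ?_
      rw [← exp_zero]; congr 1; simp
    · rw [map_div₀, map_pow, hvp, ← exp_nsmul, div_le_iff₀ exp_pos, ← exp_add]
      refine (aeval_le_one P hfin a).trans_eq ?_
      rw [← exp_zero]; congr 1; simp
    · rcases eq_or_ne a 0 with ha | ha
      · rw [ha, map_zero, zero_div, map_zero]; exact zero_le
      rw [map_div₀, map_pow]
      by_cases hR1 : R.1 x ≤ 1
      · have hpR : R.1 (aeval x p) = 1 := by
          refine (lt_or_eq_of_le (aeval_le_one R hR1 p)).resolve_left fun h => hR ?_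
          refine ext_of_le R P fun z hz => ?_
          by_contra hgt
          push Not at hgt
          have hzfrac : z * aeval x z.denom = aeval x z.num := by
            rw [aeval_X_eq, aeval_X_eq]
            conv_lhs => arg 1; rw [← RatFunc.num_div_denom z]
            rw [div_mul_cancel₀ _ (RatFunc.algebraMap_ne_zero (RatFunc.denom_ne_zero z))]
          have hd : p ∣ z.denom := by
            by_contra hn
            have h1 := congrArg P.1 hzfrac
            rw [map_mul, not_dvd_unit P hfin hp hpP hn, mul_one] at h1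
            exact hgt.not_ge (h1.trans_le (aeval_le_one P hfin _))
          have hn : ¬ p ∣ z.num := fun hn =>
            hp.not_isUnit ((RatFunc.isCoprime_num_denom z).isUnit_of_dvd' hn hd)
          have h1 := congrArg R.1 hzfrac
          rw [map_mul, not_dvd_unit R hR1 hp h hn] at h1
          have h2 : R.1 (aeval x z.denom) < 1 := by
            obtain ⟨q, hq⟩ := hd
            rw [hq, map_mul, map_mul]
            exact (mul_le_of_le_one_right' (aeval_le_one R hR1 q)).trans_lt h
          exact ((mul_le_of_le_one_left zero_le hz).trans_lt h2).ne h1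
        rw [hpR, one_pow, div_one]; exact aeval_le_one R hR1 a
      · push Not at hR1
        rw [aeval_eq_pow R hR1 ha, aeval_eq_pow R hR1 hp.ne_zero, ← pow_mul]
        refine div_le_one_of_le₀ (pow_le_pow_right₀ hR1.le ?_) zero_le
        have := natDegree_modByMonic_lt a' hpm (fun h => hp.not_isUnit (h ▸ isUnit_one))
        calc a.natDegree ≤ p.natDegree := this.le
          _ ≤ _ := Nat.le_mul_of_pos_right _ hm
  · push Not at hfin
    obtain ⟨hX, -, honly⟩ := infinite_place P hfin
    have hval := congrArg P.1 hfrac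
    rw [map_mul, hf, aeval_eq_pow P hfin hnum, aeval_eq_pow P hfin (RatFunc.denom_ne_zero f), hX, ← exp_nsmul, ← exp_nsmul,
      ← exp_add, exp_inj, nsmul_eq_mul, nsmul_eq_mul, mul_one, mul_one] at hval
    have hd : f.num.natDegree = f.denom.natDegree + 2 * m := by omega
    obtain ⟨a, ha⟩ := exists_sqrt h2 (f.num.leadingCoeff / f.denom.leadingCoeff)
    refine ⟨algebraMap k (RatFunc k) a * x ^ m, ?_, ?_, fun R hR => ?_⟩
    · set q := f.num - C (a ^ 2) * X ^ (2 * m) * f.denom
      have h1 : (f - (algebraMap k (RatFunc k) a * x ^ m) ^ 2) * aeval x f.denom = aeval x q := by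
        simp only [q, map_sub, map_mul, map_pow, aeval_C, aeval_X, sub_mul, hfrac]; ring
      rcases eq_or_ne q 0 with hq | hq
      · rw [hq, map_zero, mul_eq_zero] at h1
        rw [h1.resolve_right hden, map_zero]; exact exp_pos
      have hqd : q.natDegree < f.num.natDegree := by
        have ha0 : a ≠ 0 := fun h0 => by
          rw [h0, zero_pow two_ne_zero, eq_comm, div_eq_zero_iff, leadingCoeff_eq_zero, leadingCoeff_eq_zero] at ha
          exact ha.elim hnum (RatFunc.denom_ne_zero f)
        have hC : C (a ^ 2) * X ^ (2 * m) * f.denom ≠ 0 :=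
          mul_ne_zero (mul_ne_zero (C_ne_zero.2 (pow_ne_zero 2 ha0)) (pow_ne_zero _ X_ne_zero)) (RatFunc.denom_ne_zero f)
        have hdC : (C (a ^ 2) * X ^ (2 * m) * f.denom).natDegree = f.num.natDegree := by
          rw [natDegree_mul (mul_ne_zero (C_ne_zero.2 (pow_ne_zero 2 ha0)) (pow_ne_zero _ X_ne_zero)) (RatFunc.denom_ne_zero f),
            natDegree_C_mul_X_pow _ _ (pow_ne_zero 2 ha0), hd]; omega
        have hlc : (C (a ^ 2) * X ^ (2 * m) * f.denom).leadingCoeff = f.num.leadingCoeff := by
          rw [leadingCoeff_mul, leadingCoeff_mul, leadingCoeff_C, leadingCoeff_X_pow, mul_one, ha,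
            div_mul_cancel₀ _ (leadingCoeff_ne_zero.2 (RatFunc.denom_ne_zero f))]
        have h3 := degree_sub_lt (by rw [degree_eq_natDegree hnum, degree_eq_natDegree hC, hdC]) hnum hlc.symm
        exact natDegree_lt_natDegree hq h3
      have h3 := congrArg P.1 h1
      rw [map_mul, aeval_eq_pow P hfin hq, aeval_eq_pow P hfin (RatFunc.denom_ne_zero f), hX, ← exp_nsmul, ← exp_nsmul] at h3
      calc P.1 (f - (algebraMap k (RatFunc k) a * x ^ m) ^ 2)
          = exp (q.natDegree • (1 : ℤ)) * exp (-(f.denom.natDegree • (1 : ℤ))) := by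
            rw [← h3, mul_assoc, ← exp_add, add_neg_cancel, exp_zero, mul_one]
        _ < _ := by rw [← exp_add, exp_lt_exp]; simp; omega
    · rw [map_mul, map_pow, hX, ← exp_nsmul]
      exact (mul_le_of_le_one_left zero_le (P.2.1 a)).trans_eq (by simp)
    · have hR1 : R.1 x ≤ 1 := not_lt.1 fun h => hR (honly R h)
      rw [map_mul, map_pow]
      exact mul_le_one₀ (R.2.1 a) zero_le (pow_le_one₀ zero_le hR1)

/-- every `f` is congruent modulo `g ^ 2 + g` to one with odd pole orders -/
theorem exists_odd [PerfectField k] (h2 : ringChar k = 2) (f : RatFunc k) :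
    ∃ g : RatFunc k, ∀ P : Place k (RatFunc k), P.ord (f + g ^ 2 + g) < 0 → Odd (P.ord (f + g ^ 2 + g)) := by
  classical
  have hK := ff0_rat (k := k)
  have : CharP (RatFunc k) 2 := by
    have : CharP k 2 := h2 ▸ ringChar.charP k
    exact charP_of_injective_algebraMap (algebraMap k (RatFunc k)).injective 2
  let N : RatFunc k → ℕ := fun z => ∑ P ∈ (finite_ord_support hK z).toFinset, (-P.ord z).toNat
  suffices ∀ n : ℕ, ∀ z : RatFunc k, N z = n → ∃ g : RatFunc k, ∀ P : Place k (RatFunc k),
      P.ord (z + g ^ 2 + g) < 0 → Odd (P.ord (z + g ^ 2 + g)) from this _ f rfl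
  intro n
  induction n using Nat.strong_induction_on with
  | _ n ih =>
    intro z hz
    by_cases hgood : ∀ P : Place k (RatFunc k), P.ord z < 0 → Odd (P.ord z)
    · exact ⟨0, by simpa using hgood⟩
    push Not at hgood
    obtain ⟨P, hneg, heven⟩ := hgood
    obtain ⟨r, hr⟩ := Int.not_odd_iff_even.1 heven
    have hz0 : z ≠ 0 := fun h => by simp [h, Place.ord] at hneg
    obtain ⟨m, hm⟩ : ∃ m : ℕ, (m : ℤ) = -r := ⟨(-r).toNat, by omega⟩
    obtain ⟨g, hg1, hg2, hg3⟩ := exists_reduce h2 P (m := m) (by omega) (f := z) (by rw [v_eq_exp P hz0]; congr 1; omega)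
    set z' := z + g ^ 2 + g
    have hz'eq : z' = z - g ^ 2 + g := by simp only [z', CharTwo.sub_eq_add]
    have hP : (-P.ord z').toNat < (-P.ord z).toNat := by
      have h1 : P.1 z' < exp (2 * (m : ℤ)) := by
        rw [hz'eq]
        exact (Valuation.map_add _ _ _).trans_lt (max_lt hg1 (hg2.trans_lt (exp_lt_exp.2 (by omega))))
      rcases eq_or_ne z' 0 with h0 | h0
      · rw [h0, show P.ord (0 : RatFunc k) = 0 by simp [Place.ord]]; omega
      · rw [v_eq_exp P h0, exp_lt_exp] at h1; omega
    have hle : ∀ R : Place k (RatFunc k), (-R.ord z').toNat ≤ (-R.ord z).toNat := fun R => by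
      rcases eq_or_ne R P with rfl | hne
      · exact hP.le
      rcases eq_or_ne z' 0 with h0 | h0
      · simp [h0, Place.ord]
      have h1 : R.1 z' ≤ max (R.1 z) 1 := by
        refine (Valuation.map_add _ _ _).trans (max_le ((Valuation.map_add _ _ _).trans (max_le (le_max_left _ _) ?_))
          (le_max_of_le_right (hg3 R hne)))
        rw [map_pow]; exact le_max_of_le_right (pow_le_one₀ zero_le (hg3 R hne))
      rw [v_eq_exp R h0, v_eq_exp R hz0, le_max_iff, exp_le_exp, ← exp_zero, exp_le_exp] at h1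
      omega
    have hlt : N z' < n := by
      rw [← hz]
      set S := (finite_ord_support hK z).toFinset
      set S' := (finite_ord_support hK z').toFinset
      have e1 : N z' = ∑ R ∈ S ∪ S', (-R.ord z').toNat := Finset.sum_subset Finset.subset_union_right fun R _ hR => by
        rw [Set.Finite.mem_toFinset, Function.mem_support, not_not] at hR; rw [hR]; rfl
      have e2 : N z = ∑ R ∈ S ∪ S', (-R.ord z).toNat := Finset.sum_subset Finset.subset_union_left fun R _ hR => by
        rw [Set.Finite.mem_toFinset, Function.mem_support, not_not] at hR; rw [hR]; rfl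
      rw [e1, e2]
      exact Finset.sum_lt_sum (fun R _ => hle R) ⟨P, Finset.mem_union_left _ ((Set.Finite.mem_toFinset _).2 hneg.ne), hP⟩
    obtain ⟨g', hg'⟩ := ih (N z') hlt z' rfl
    refine ⟨g + g', ?_⟩
    have e : z + (g + g') ^ 2 + (g + g') = z' + g' ^ 2 + g' := by
      simp only [z', add_sq', CharTwo.two_eq_zero, zero_mul, add_zero]; ring
    rw [e]; exact hg'

end Groth.Agent.FunFldLib.Quad
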