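import Groth.Agent.FunFldLib.Quad.Normal
import Mathlib.FieldTheory.Perfect

/-! Pole polynomials. -/

set_option autoImplicit false

universe u v

open WithZero Polynomial
open scoped IntermediateField

namespace Groth.Agent.FunFldLib.Quad

open FunFld Groth.Agent.FunFldLib

variable {k : Type u} [Field k]

theorem eq_of_prime (P R : Place k (RatFunc k)) (hP : P.1 RatFunc.X ≤ 1) (hR : R.1 RatFunc.X ≤ 1) {p : k[X]}
    (hp : Irreducible p) (hpP : P.1 (aeval (RatFunc.X : RatFunc k) p) < 1) (hpR : R.1 (aeval (RatFunc.X : RatFunc k) p) < 1) :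
    R = P := by
  refine ext_of_le R P fun z hz => ?_
  by_contra hgt
  push Not at hgt
  set x : RatFunc k := RatFunc.X
  have hzfrac : z * aeval x z.denom = aeval x z.num := by
    rw [aeval_X_eq, aeval_X_eq]
    conv_lhs => arg 1; rw [← RatFunc.num_div_denom z]
    rw [div_mul_cancel₀ _ (RatFunc.algebraMap_ne_zero (RatFunc.denom_ne_zero z))]
  have hd : p ∣ z.denom := by
    by_contra hn
    have h1 := congrArg P.1 hzfrac
    rw [map_mul, not_dvd_unit P hP hp hpP hn, mul_one] at h1
    exact hgt.not_ge (h1.trans_le (aeval_le_one P hP _))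
  have hn : ¬ p ∣ z.num := fun hn => hp.not_isUnit ((RatFunc.isCoprime_num_denom z).isUnit_of_dvd' hn hd)
  have h1 := congrArg R.1 hzfrac
  rw [map_mul, not_dvd_unit R hR hp hpR hn] at h1
  have h2 : R.1 (aeval x z.denom) < 1 := by
    obtain ⟨q, hq⟩ := hd
    rw [hq, map_mul, map_mul]
    exact (mul_le_of_le_one_right' (aeval_le_one R hR q)).trans_lt hpR
  exact ((mul_le_of_le_one_left zero_le hz).trans_lt h2).ne h1

theorem poles_finite (f : RatFunc k) : {p : Place k (RatFunc k) | 1 < p.1 f}.Finite :=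
  (finite_ord_support ff0_rat f).subset fun p hp => by
    have h0 : f ≠ 0 := fun h => by
      rw [Set.mem_ofPred_eq, h, map_zero] at hp; exact not_lt_zero hp
    rw [Set.mem_ofPred_eq, v_eq_exp p h0, ← exp_zero, exp_lt_exp] at hp
    show p.ord f ≠ 0
    omega

noncomputable def poles (f : RatFunc k) : Finset (Place k (RatFunc k)) := (poles_finite f).toFinset

theorem mem_poles {f : RatFunc k} {p : Place k (RatFunc k)} : p ∈ poles f ↔ 1 < p.1 f := by
  simp [poles]

open scoped Classical in
theorem exists_q (Pinf : Place k (RatFunc k)) (hinf : 1 < Pinf.1 (RatFunc.X : RatFunc k)) (f : RatFunc k)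
    (hodd : ∀ p : Place k (RatFunc k), 1 < p.1 f → Odd (p.ord f)) :
    ∃ q : k[X], q ≠ 0 ∧ (∀ p : Place k (RatFunc k), p.1 RatFunc.X ≤ 1 →
      p.ord (algebraMap k[X] (RatFunc k) q) = if 1 < p.1 f then (1 - p.ord f) / 2 else 0) ∧
      (q.natDegree : ℤ) = ∑ p ∈ (poles f).filter (fun p => p ≠ Pinf), (1 - p.ord f) / 2 * (p.deg : ℤ) := by
  classical
  have hK := ff0_rat (k := k)
  obtain ⟨-, hdeg1, honly⟩ := infinite_place Pinf hinf
  set S := (poles f).filter (fun p => p ≠ Pinf)
  have hfin : ∀ p : Place k (RatFunc k), p ≠ Pinf → p.1 RatFunc.X ≤ 1 := fun p hp =>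
    not_lt.1 fun h => hp (honly p h)
  have hex : ∀ p : Place k (RatFunc k), ∃ π : k[X], π ≠ 0 ∧
      (p ≠ Pinf → Irreducible π ∧ p.1 (aeval (RatFunc.X : RatFunc k) π) < 1) := fun p => by
    by_cases hp : p = Pinf
    · exact ⟨1, one_ne_zero, fun h => absurd hp h⟩
    · obtain ⟨π, -, h1, h2⟩ := exists_prime p (hfin p hp)
      exact ⟨π, h1.ne_zero, fun _ => ⟨h1, h2⟩⟩
  choose π hπ0 hπ using hex
  let M : Place k (RatFunc k) → ℕ := fun p => ((1 - p.ord f) / 2).toNat
  have hM : ∀ p ∈ S, (M p : ℤ) = (1 - p.ord f) / 2 := fun p hp => by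
    have h := mem_poles.1 (Finset.mem_filter.1 hp).1
    have h0 : f ≠ 0 := fun e => by rw [e, map_zero] at h; exact not_lt_zero h
    rw [v_eq_exp p h0, ← exp_zero, exp_lt_exp] at h
    simp only [M]; omega
  set q : k[X] := ∏ p ∈ S, π p ^ M p
  have hq0 : q ≠ 0 := Finset.prod_ne_zero_iff.2 fun p _ => pow_ne_zero _ (hπ0 p)
  set Q := algebraMap k[X] (RatFunc k) q with hQ
  have hord : ∀ R : Place k (RatFunc k), R ≠ Pinf → R.1 Q = if R ∈ S then exp (-(M R : ℤ)) else 1 := fun R hR => by
    rw [hQ, ← aeval_X_eq, map_prod, map_prod]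
    have hval : ∀ p ∈ S, R.1 (aeval (RatFunc.X : RatFunc k) (π p ^ M p)) = if p = R then exp (-(M R : ℤ)) else 1 := fun p hp => by
      obtain ⟨h1, h2⟩ := hπ p (Finset.mem_filter.1 hp).2
      rw [map_pow, map_pow]
      split_ifs with h
      · subst h
        rw [v_prime p (hfin p hR) h1 h2, ← exp_nsmul]; simp
      · have hunit : R.1 (aeval (RatFunc.X : RatFunc k) (π p)) = 1 :=
          (lt_or_eq_of_le (aeval_le_one R (hfin R hR) _)).resolve_left fun hlt =>
            h (eq_of_prime p R (hfin p (Finset.mem_filter.1 hp).2) (hfin R hR) h1 h2 hlt).symm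
        rw [hunit, one_pow]
    rw [Finset.prod_congr rfl hval, Finset.prod_ite_eq']
  refine ⟨q, hq0, fun p hp => ?_, ?_⟩
  · have hne : p ≠ Pinf := fun h => by subst h; exact hinf.not_ge hp
    rw [Place.ord, hord p hne]
    by_cases h1 : 1 < p.1 f
    · have hmem : p ∈ S := Finset.mem_filter.2 ⟨mem_poles.2 h1, hne⟩
      rw [if_pos hmem, if_pos h1, log_exp, neg_neg, hM p hmem]
    · rw [if_neg fun h => h1 (mem_poles.1 (Finset.mem_filter.1 h).1), if_neg h1]; simp
  · have h0 := deg_div hK Q
    have hdiv : FunFld.div k Q = ∑ p ∈ S, Finsupp.single p (M p : ℤ) + Finsupp.single Pinf (-(q.natDegree : ℤ)) := by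
      refine Finsupp.ext fun R => ?_
      rw [div_apply hK, Finsupp.add_apply, Finsupp.finsetSum_apply]
      simp only [Finsupp.single_apply]
      rw [Finset.sum_ite_eq']
      rcases eq_or_ne R Pinf with rfl | hR
      · rw [if_neg (show R ∉ S from fun h => (Finset.mem_filter.1 h).2 rfl), zero_add, Place.ord, hQ, ← aeval_X_eq,
          aeval_eq_pow R hinf hq0, (infinite_place R hinf).1, ← exp_nsmul, log_exp]
        simp
      · rw [if_neg (Ne.symm hR), add_zero, Place.ord, hord R hR]
        split_ifs <;> simp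
    have hsum : ∀ T : Finset (Place k (RatFunc k)), Divisor.deg (∑ p ∈ T, Finsupp.single p (M p : ℤ) : Divisor k (RatFunc k)) =
        ∑ p ∈ T, (M p : ℤ) * (p.deg : ℤ) := fun T => by
      induction T using Finset.induction with
      | empty => simp [deg_zero]
      | insert a T ha ih => rw [Finset.sum_insert ha, deg_add, deg_single, ih, Finset.sum_insert ha]
    rw [hdiv, deg_add, hsum, deg_single, hdeg1] at h0
    rw [show ∑ p ∈ S, (1 - p.ord f) / 2 * (p.deg : ℤ) = ∑ p ∈ S, (M p : ℤ) * (p.deg : ℤ) from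
      Finset.sum_congr rfl fun p hp => by rw [hM p hp]]
    push_cast at h0
    linarith

variable {K : Type v} [Field K] [Algebra (RatFunc k) K]

theorem separable_of_as [PerfectField k] [CharP K 2] [FiniteDimensional (RatFunc k) K]
    (hdeg : Module.finrank (RatFunc k) K = 2) {y : K} (hy : y ∉ Set.range (algebraMap (RatFunc k) K)) {f : RatFunc k}
    (heq : y ^ 2 + y = algebraMap (RatFunc k) K f) : Algebra.IsSeparable (RatFunc k) K := by
  have hgen := adjoin_eq_top hdeg hy
  have : CharP (RatFunc k) 2 := (RingHom.charP_iff (algebraMap (RatFunc k) K) (algebraMap (RatFunc k) K).injective 2).2 inferInstance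
  have hsep : IsSeparable (RatFunc k) y := by
    have hpoly : (X ^ 2 + X - C f : (RatFunc k)[X]).Separable := by
      refine separable_def _ |>.2 ⟨0, 1, ?_⟩
      simp [derivative_pow, CharTwo.two_eq_zero]
    exact hpoly.of_dvd (minpoly.dvd _ y (by simp [aeval_C, heq]))
  have : Algebra.IsSeparable (RatFunc k) (IntermediateField.adjoin (RatFunc k) ({y} : Set K)) :=
    (IntermediateField.isSeparable_adjoin_simple_iff_isSeparable _ _).2 hsep
  rw [hgen] at this
  exact Algebra.IsSeparable.of_algHom (RatFunc k) (⊤ : IntermediateField (RatFunc k) K) IntermediateField.topEquiv.symm.toAlgHom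

end Groth.Agent.FunFldLib.Quad
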