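import Groth.Agent.FunFldLib.Riemann
import Groth.Agent.FunFldLib.Hyper
import Mathlib.FieldTheory.RatFunc.AsPolynomial

/-! Places of the rational function field. -/

set_option autoImplicit false

open WithZero Polynomial

namespace Groth.Agent.FunFldLib.Quad

open FunFld Groth.Agent.FunFldLib

variable {k : Type*} [Field k]

theorem transX : Transcendental k (RatFunc.X : RatFunc k) := transcendental_iff.2 fun p hp => by
  rw [RatFunc.aeval_X_left_eq_algebraMap] at hp
  exact (map_eq_zero_iff _ (RatFunc.algebraMap_injective k)).1 hp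

theorem adjoin_X_top : IntermediateField.adjoin k ({RatFunc.X} : Set (RatFunc k)) = ⊤ := eq_top_iff.2 fun r _ =>
  (IntermediateField.mem_adjoin_simple_iff k r).2 ⟨r.num, r.denom, by
    rw [RatFunc.aeval_X_left_eq_algebraMap, RatFunc.aeval_X_left_eq_algebraMap, RatFunc.num_div_denom]⟩

theorem ff0_rat : IsFF0 k (RatFunc k) :=
  ⟨RatFunc.X, transX, by
    rw [adjoin_X_top]
    exact Module.Finite.of_surjective (Algebra.linearMap (⊤ : IntermediateField k (RatFunc k)) (RatFunc k))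
      fun x => ⟨⟨x, trivial⟩, rfl⟩⟩

theorem ff_rat : IsFunctionField k (RatFunc k) :=
  ⟨ff0_rat, fun y hy => mem_range_of_algebraic transX (by rw [adjoin_X_top]; trivial) hy⟩

theorem degX_X : degX k (RatFunc.X : RatFunc k) = 1 := by
  rw [degX, adjoin_X_top, IntermediateField.finrank_top]

variable {K : Type*} [Field K] [Algebra k K] (P : Place k K) {x : K}

/-- polynomial values where the variable is integral -/
theorem aeval_le_one (hx : P.1 x ≤ 1) (c : k[X]) : P.1 (aeval x c) ≤ 1 := by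
  induction c using Polynomial.induction_on' with
  | add a b ha hb => rw [map_add]; exact (Valuation.map_add _ _ _).trans (max_le ha hb)
  | monomial n a =>
    rw [aeval_monomial, ← Algebra.smul_def]
    exact (smul_le P _ _).trans (by rw [map_pow]; exact pow_le_one₀ zero_le hx)

/-- polynomial values where the variable has a pole -/
theorem aeval_eq_pow (hx : 1 < P.1 x) {c : k[X]} (hc : c ≠ 0) : P.1 (aeval x c) = P.1 x ^ c.natDegree := by
  have hl : c.coeff c.natDegree ≠ 0 := leadingCoeff_ne_zero.2 hc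
  have hlead : P.1 (c.coeff c.natDegree • x ^ c.natDegree) = P.1 x ^ c.natDegree := by
    rw [Algebra.smul_def, map_mul, map_pow, v_algebraMap P hl, one_mul]
  rw [← hlead, aeval_eq_sum_range]
  refine Valuation.map_sum_eq_of_lt P.1 (Finset.self_mem_range_succ _) fun i hi => ?_
  rw [Finset.mem_sdiff, Finset.mem_range, Finset.mem_singleton] at hi
  rw [hlead]
  exact (smul_le P _ _).trans_lt (by rw [map_pow]; exact pow_lt_pow_right₀ hx (by omega))

theorem x_le_one_of_lt {c : k[X]} (hc : c ≠ 0) (h : P.1 (aeval x c) < 1) : P.1 x ≤ 1 := by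
  by_contra hgt
  push Not at hgt
  rw [aeval_eq_pow P hgt hc] at h
  exact (one_le_pow₀ hgt.le).not_gt h

theorem dvd_of_lt (hx : P.1 x ≤ 1) {p c : k[X]} (hp : Irreducible p) (hpP : P.1 (aeval x p) < 1)
    (hc : P.1 (aeval x c) < 1) : p ∣ c := by
  by_contra hn
  obtain ⟨a, b, hab⟩ := hp.coprime_iff_not_dvd.2 hn
  have h1 : P.1 (aeval x (a * p + b * c)) < 1 := by
    rw [map_add, map_mul, map_mul]
    refine (Valuation.map_add _ _ _).trans_lt (max_lt ?_ ?_) <;> rw [map_mul]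
    · exact (mul_le_of_le_one_left zero_le (aeval_le_one P hx a)).trans_lt hpP
    · exact (mul_le_of_le_one_left zero_le (aeval_le_one P hx b)).trans_lt hc
  rw [hab, map_one, map_one] at h1
  exact lt_irrefl _ h1

theorem not_dvd_unit (hx : P.1 x ≤ 1) {p c : k[X]} (hp : Irreducible p) (hpP : P.1 (aeval x p) < 1)
    (hc : ¬ p ∣ c) : P.1 (aeval x c) = 1 :=
  (lt_or_eq_of_le (aeval_le_one P hx c)).resolve_left fun h => hc (dvd_of_lt P hx hp hpP h)

variable (P₀ : Place k (RatFunc k))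

/-- the prime of a finite place -/
theorem exists_prime (hfin : P₀.1 RatFunc.X ≤ 1) :
    ∃ p : k[X], p.Monic ∧ Irreducible p ∧ P₀.1 (aeval (RatFunc.X : RatFunc k) p) < 1 := by
  obtain ⟨t, ht0, ht⟩ := exists_exp P₀ (-1)
  have hlt : P₀.1 t < 1 := ht.trans_lt ((exp_lt_exp.2 (by omega)).trans_eq exp_zero)
  have hnum : P₀.1 (aeval (RatFunc.X : RatFunc k) t.num) < 1 := by
    have h : t * aeval (RatFunc.X : RatFunc k) t.denom = aeval (RatFunc.X : RatFunc k) t.num := by
      rw [RatFunc.aeval_X_left_eq_algebraMap, RatFunc.aeval_X_left_eq_algebraMap]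
      conv_lhs => arg 1; rw [← RatFunc.num_div_denom t]
      rw [div_mul_cancel₀ _ (RatFunc.algebraMap_ne_zero (RatFunc.denom_ne_zero t))]
    rw [← h, map_mul]
    exact (mul_le_of_le_one_right' (aeval_le_one P₀ hfin _)).trans_lt hlt
  have hnum0 : t.num ≠ 0 := RatFunc.num_ne_zero ht0
  by_contra hno
  push Not at hno
  suffices ∀ c : k[X], c ≠ 0 → P₀.1 (aeval (RatFunc.X : RatFunc k) c) = 1 by exact (this _ hnum0 ▸ hnum).false
  intro c
  induction c using UniqueFactorizationMonoid.induction_on_prime with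
  | h₁ => intro h; exact absurd rfl h
  | h₂ u hu =>
    intro _
    obtain ⟨a, ha, rfl⟩ := Polynomial.isUnit_iff.1 hu
    rw [aeval_C, v_algebraMap P₀ ha.ne_zero]
  | h₃ a q ha0 hq ih =>
    intro _
    rw [map_mul, map_mul, ih ha0, mul_one]
    have hl : q.leadingCoeff ≠ 0 := leadingCoeff_ne_zero.2 hq.ne_zero
    have h := hno (q * C q.leadingCoeff⁻¹) (monic_mul_leadingCoeff_inv hq.ne_zero)
      ((irreducible_mul_isUnit (isUnit_C.2 (isUnit_iff_ne_zero.2 (inv_ne_zero hl)))).2 hq.irreducible)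
    rw [map_mul, map_mul, aeval_C, v_algebraMap P₀ (inv_ne_zero hl), mul_one] at h
    exact le_antisymm (aeval_le_one P₀ hfin q) h

theorem v_prime (hfin : P₀.1 RatFunc.X ≤ 1) {p : k[X]} (hp : Irreducible p) (hpP : P₀.1 (aeval (RatFunc.X : RatFunc k) p) < 1) :
    P₀.1 (aeval (RatFunc.X : RatFunc k) p) = exp (-1) := by
  classical
  set π := aeval (RatFunc.X : RatFunc k) p
  have hpoly : ∀ c : k[X], c ≠ 0 → ∃ m : ℕ, P₀.1 (aeval (RatFunc.X : RatFunc k) c) = P₀.1 π ^ m := fun c hc => by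
    obtain ⟨m, a, hna, rfl⟩ := WfDvdMonoid.max_power_factor hc hp
    exact ⟨m, by rw [map_mul, map_mul, map_pow, map_pow, not_dvd_unit P₀ hfin hp hpP hna, mul_one]⟩
  obtain ⟨t, ht0, ht⟩ := exists_exp P₀ (-1)
  obtain ⟨a, ha⟩ := hpoly _ (RatFunc.num_ne_zero ht0)
  obtain ⟨b, hb⟩ := hpoly _ (RatFunc.denom_ne_zero t)
  have h : P₀.1 t * P₀.1 π ^ b = P₀.1 π ^ a := by
    rw [← ha, ← hb, ← map_mul, RatFunc.aeval_X_left_eq_algebraMap, RatFunc.aeval_X_left_eq_algebraMap]
    conv_lhs => arg 2; arg 1; rw [← RatFunc.num_div_denom t]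
    rw [div_mul_cancel₀ _ (RatFunc.algebraMap_ne_zero (RatFunc.denom_ne_zero t))]
  have hπ0 : π ≠ 0 := fun h0 => hp.ne_zero (transcendental_iff.1 transX _ h0)
  obtain ⟨n, hn⟩ : ∃ n, log (P₀.1 π) = n := ⟨_, rfl⟩
  rw [← exp_log (v_ne_zero P₀ hπ0), hn, ht, ← exp_nsmul, ← exp_nsmul, ← exp_add, exp_inj, nsmul_eq_mul, nsmul_eq_mul] at h
  have hneg : n < 0 := by
    rw [← exp_log (v_ne_zero P₀ hπ0), hn, ← exp_zero, exp_lt_exp] at hpP; exact hpP
  have hd : n ∣ 1 := ⟨(b : ℤ) - a, by linarith⟩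
  rw [← exp_log (v_ne_zero P₀ hπ0), hn]
  rcases Int.isUnit_iff.1 (isUnit_of_dvd_one hd) with h' | h' <;> [omega; rw [h']]

/-- a squarefree polynomial at a finite place -/
theorem v_squarefree (hfin : P₀.1 RatFunc.X ≤ 1) {f : k[X]} (hf : Squarefree f) :
    P₀.1 (aeval (RatFunc.X : RatFunc k) f) = 1 ∨ P₀.1 (aeval (RatFunc.X : RatFunc k) f) = exp (-1) := by
  rcases lt_or_eq_of_le (aeval_le_one P₀ hfin f) with h | h
  · obtain ⟨p, -, hp, hpP⟩ := exists_prime P₀ hfin
    obtain ⟨g, rfl⟩ := dvd_of_lt P₀ hfin hp hpP h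
    have hg : ¬ p ∣ g := fun ⟨w, hw⟩ => hp.not_isUnit (hf p ⟨w, by rw [hw, mul_assoc]⟩)
    exact .inr (by rw [map_mul, map_mul, not_dvd_unit P₀ hfin hp hpP hg, mul_one, v_prime P₀ hfin hp hpP])
  · exact .inl h

/-- the place at infinity -/
theorem infinite_place (hinf : 1 < P₀.1 (RatFunc.X : RatFunc k)) :
    P₀.1 (RatFunc.X : RatFunc k) = exp 1 ∧ P₀.deg = 1 ∧
      ∀ R : Place k (RatFunc k), 1 < R.1 RatFunc.X → R = P₀ := by
  classical
  have hK := ff0_rat (k := k)
  have hX : (RatFunc.X : RatFunc k) ≠ 0 := RatFunc.X_ne_zero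
  have h := deg_zeros_eq hK (transcendental_inv hK (transX (k := k)))
  rw [degX_inv, degX_X, deg_sup_zero] at h
  have hmem : ∀ R : Place k (RatFunc k), 1 < R.1 RatFunc.X →
      R ∈ (FunFld.div k (RatFunc.X : RatFunc k)⁻¹).support.filter (fun R => 0 < FunFld.div k (RatFunc.X : RatFunc k)⁻¹ R) := fun R hR => by
    have h1 : 0 < FunFld.div k (RatFunc.X : RatFunc k)⁻¹ R := by
      rw [div_apply hK, ← v_lt_one_iff R (inv_ne_zero hX), map_inv₀]
      exact inv_lt_one_of_one_lt₀ hR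
    exact Finset.mem_filter.2 ⟨Finsupp.mem_support_iff.2 h1.ne', h1⟩
  set S := (FunFld.div k (RatFunc.X : RatFunc k)⁻¹).support.filter (fun R => 0 < FunFld.div k (RatFunc.X : RatFunc k)⁻¹ R) with hS
  have hge : ∀ R ∈ S, 1 ≤ FunFld.div k (RatFunc.X : RatFunc k)⁻¹ R * (R.deg : ℤ) := fun R hR => by
    have h1 := (Finset.mem_filter.1 hR).2
    have h2 : 0 < (R.deg : ℤ) := by exact_mod_cast deg_pos hK R
    nlinarith
  have hcard : (S.card : ℤ) ≤ 1 := by
    have := Finset.card_nsmul_le_sum S _ 1 hge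
    rw [nsmul_eq_mul, mul_one] at this
    omega
  have hP := hmem P₀ hinf
  have honly : S = {P₀} := Finset.eq_singleton_iff_unique_mem.2 ⟨hP, fun R hR =>
    Finset.card_le_one.1 (by exact_mod_cast hcard) R hR P₀ hP⟩
  rw [honly, Finset.sum_singleton] at h
  have hd : (P₀.deg : ℤ) = 1 := Int.eq_one_of_mul_eq_one_left (Int.natCast_nonneg _) h
  rw [hd, mul_one, div_apply hK, ord_inv] at h
  refine ⟨by rw [v_eq_exp P₀ hX, exp_inj]; omega, by exact_mod_cast hd, fun R hR => ?_⟩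
  simpa [honly] using hmem R hR

end Groth.Agent.FunFldLib.Quad
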